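import Groth.Agent.SmDesc77.Affine

/-!
# Quasi-regular and `H₁`-regular immersions over a smooth scheme descend
-/

set_option autoImplicit false

universe u

open AlgebraicGeometry CategoryTheory Limits

namespace Groth.Agent.SmDesc77

variable {X Y : Scheme.{u}} (i : Y ⟶ X)

/-- At each point a regular generating sequence in the sense of `Reg b`. -/
def RegAt (b : Prop) (z : Y) : Prop :=
  ∃ U : X.affineOpens, i z ∈ U.1 ∧ IsClosedImmersion (i ∣_ U.1) ∧
    ∃ (c : ℕ) (f : Fin c → Γ(X, U.1)), Reg b f ∧ Ideal.span (Set.range f) = RingHom.ker (i.app U.1).hom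

theorem locReg_ker {b : Prop} (h : ∀ z, RegAt i b z) {U : X.Opens}
    (hU : IsAffineOpen U) [IsClosedImmersion (i ∣_ U)] :
    LocReg b (RingHom.ker (i.app U).hom) := by
  intro P hP
  obtain ⟨z, hz⟩ := RegImm44.exists_preimage_of_ker_le i hU P hP
  obtain ⟨⟨V, hV⟩, hzV, hci, c, l, hl, hker⟩ := h z
  haveI := hci
  have hzU : i z ∈ U := by
    rw [hz, ← SetLike.mem_coe, ← hU.range_fromSpec]; exact ⟨_, rfl⟩
  obtain ⟨f, g, hfg, hxf⟩ := exists_basicOpen_le_affine_inter hU hV (i z) ⟨hzU, hzV⟩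
  refine ⟨f, ?_, ?_⟩
  · rw [hz] at hxf
    have h1 : P ∈ hU.fromSpec ⁻¹ᵁ X.basicOpen f := hxf
    rw [hU.fromSpec_preimage_basicOpen] at h1
    exact h1
  have hDV : X.basicOpen f ≤ V := hfg ▸ X.basicOpen_le g
  let ρ := (X.presheaf.map (homOfLE hDV).op).hom
  have hρ : ρ.Flat := by
    have := (𝟙 X : X ⟶ X).flat_appLE hV (hU.basicOpen f) (show X.basicOpen f ≤ (𝟙 X : X ⟶ X) ⁻¹ᵁ V from hDV)
    rwa [show (𝟙 X : X ⟶ X).appLE V (X.basicOpen f) hDV = X.presheaf.map (homOfLE hDV).op from by simp [Scheme.Hom.appLE]; exact Category.id_comp _] at this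
  haveI := hU.isLocalization_basicOpen f
  let e : Γ(X, X.basicOpen f) ≃ₐ[Γ(X, U)] Localization.Away f :=
    IsLocalization.algEquiv (Submonoid.powers f) _ _
  refine ⟨c, fun k => e.toRingEquiv.toRingHom (ρ (l k)),
    (hl.map ρ hρ).map e.toRingEquiv.toRingHom (RingHom.Flat.of_bijective e.bijective), ?_⟩
  rw [span_map e.toRingEquiv.toRingHom (fun k => ρ (l k)), span_map ρ l, hker,
    ← RegImm44.ker_app_restrict i hV (hU.basicOpen f) hDV,
    RegImm44.ker_app_restrict i hU (hU.basicOpen f) (X.basicOpen_le f), Ideal.map_map]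
  congr 1
  ext x
  exact e.commutes x

theorem regAt_of_locReg {b : Prop} {U : X.Opens}
    (hU : IsAffineOpen U) [IsClosedImmersion (i ∣_ U)]
    (h : LocReg b (RingHom.ker (i.app U).hom)) (z : Y) (hz : i z ∈ U) : RegAt i b z := by
  obtain ⟨f, hf, c, l, hl, hspan⟩ := h _ (RegImm44.ker_le_primeIdealOf i hU z hz)
  haveI := hU.isLocalization_basicOpen f
  let e : Localization.Away f ≃ₐ[Γ(X, U)] Γ(X, X.basicOpen f) :=
    IsLocalization.algEquiv (Submonoid.powers f) _ _
  refine ⟨⟨X.basicOpen f, hU.basicOpen f⟩, (RegImm44.mem_basicOpen_iff hU ⟨i z, hz⟩ f).2 hf,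
    RegImm44.isClosedImmersion_restrict_of_le i (X.basicOpen_le f), c, fun k => e.toRingEquiv.toRingHom (l k),
    hl.map _ (RingHom.Flat.of_bijective e.bijective), ?_⟩
  rw [span_map e.toRingEquiv.toRingHom l, hspan,
    RegImm44.ker_app_restrict i hU (hU.basicOpen f) (X.basicOpen_le f), Ideal.map_map]
  congr 1
  ext x
  exact e.commutes x

/-- Regularity descends along a smooth morphism. -/
theorem regAt_of_smooth {S : Scheme.{u}} (p : X ⟶ S) [Smooth p] [IsImmersion i] (j : Y ⟶ S) [IsImmersion j]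
    (h : i ≫ p = j) {b : Prop} (hi : ∀ z, RegAt i b z) (z : Y) : RegAt j b z := by
  obtain ⟨U, W, e, hU, hW, hzU, hzW, hcj, hci, heq, hstd⟩ := RegImm44.exists_chart_smooth j i p h z
  haveI := hcj
  haveI := hci
  have hcomp : p.appLE U W e ≫ i.appLE W (j ⁻¹ᵁ U) heq.le = j.app U := by
    rw [Scheme.Hom.appLE_comp_appLE, Scheme.Hom.app_eq_appLE]
    subst h
    rfl
  refine regAt_of_locReg j hU ?_ z hzU
  have h1 := locReg_ker i hi hW
  rw [← RegImm44.ker_appLE_of_eq i heq] at h1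
  have h2 := LocReg.ker_of_standardSmooth (p.appLE U W e).hom hstd (i.appLE W (j ⁻¹ᵁ U) heq.le).hom
    (by rw [← CommRingCat.hom_comp, hcomp]; exact RegImm44.app_surjective j hU) h1
  rwa [← CommRingCat.hom_comp, hcomp] at h2

theorem regAt_quasi_iff (z : Y) : RegAt i False z ↔ RegImm.IsRegularImmersionAt .quasi i z := by
  constructor
  · rintro ⟨U, hz, hci, c, f, hf, hspan⟩
    exact ⟨U, hz, hci, List.ofFn f,
      RegImm38.congr_cast (fun {n} g => CAlgX.IsQuasiRegular g) (List.length_ofFn).symm (fun k => by simp) hf.1,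
      by rw [← KReg44.span_range_eq_ofList, hspan]⟩
  · rintro ⟨U, hz, hci, rs, hrs, hker⟩
    exact ⟨U, hz, hci, rs.length, rs.get, ⟨hrs, False.elim⟩, by rw [hker, Ideal.ofList, Set.range_list_get]⟩

theorem regAt_h1_iff (z : Y) : RegAt i True z ↔ RegImm.IsRegularImmersionAt .h1 i z := by
  constructor
  · rintro ⟨U, hz, hci, c, f, hf, hspan⟩
    exact ⟨U, hz, hci, List.ofFn f,
      RegImm38.congr_cast (fun {n} g => CAlgX.IsH1Regular g) (List.length_ofFn).symm (fun k => by simp)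
        (hf.2 trivial),
      by rw [← KReg44.span_range_eq_ofList, hspan]⟩
  · rintro ⟨U, hz, hci, rs, hrs, hker⟩
    exact ⟨U, hz, hci, rs.length, rs.get, ⟨RegLoc.H1Seq.isQuasiRegular rs.get hrs, fun _ => hrs⟩,
      by rw [hker, Ideal.ofList, Set.range_list_get]⟩

end Groth.Agent.SmDesc77
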