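import Groth.Agent.SmDesc77.Split

/-!
# Permanence of regularity: the three kinds
-/

set_option autoImplicit false
set_option linter.style.haveILetI false

universe u

open CategoryTheory CategoryTheory.Limits AlgebraicGeometry TopologicalSpace

noncomputable section

namespace Groth.Agent.SmDesc77

variable {X Y Z : Scheme.{u}} (i : Y ⟶ X) (j : Z ⟶ Y) [IsImmersion i] [IsImmersion j] [QuasiCompact i] [QuasiCompact j]

theorem map_res_res {U V W : X.Opens} (h₁ : W ≤ V) (h₂ : V ≤ U) (a : Γ(X, U)) :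
    (X.presheaf.map (homOfLE h₁).op).hom ((X.presheaf.map (homOfLE h₂).op).hom a) =
      (X.presheaf.map (homOfLE (h₁.trans h₂)).op).hom a := by
  rw [← RingHom.comp_apply, ← CommRingCat.hom_comp, ← Functor.map_comp, ← op_comp]
  rfl

/-- Minimal generators of the ideal of a finitely presented immersion around a point. -/
theorem exists_minimal_chart [LocallyOfFinitePresentation i] (y : Y) :
    ∃ (W : X.Opens) (_ : IsAffineOpen W) (hy : i y ∈ W) (f : List Γ(X, W)),
      IsClosedImmersion (i ∣_ W) ∧ RingHom.ker (i.app W).hom = Ideal.ofList f ∧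
      ∀ c : Fin f.length → X.presheaf.stalk (i y),
        ∑ k, c k * (X.presheaf.germ W (i y) hy).hom f[k] = 0 → ∀ k, c k ∈ IsLocalRing.maximalIdeal _ := by
  classical
  obtain ⟨W₁, hW₁, hy₁, hci⟩ := RegImm44.exists_chart i y
  haveI := hci
  have hfg : (RingHom.ker (i.app W₁).hom).FG := by
    have h1 : (i.appLE W₁ (i ⁻¹ᵁ W₁) le_rfl).hom.FinitePresentation :=
      i.finitePresentation_appLE hW₁ (RegImm44.isAffineOpen_preimage i hW₁) le_rfl
    rw [← Scheme.Hom.app_eq_appLE] at h1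
    letI := (i.app W₁).hom.toAlgebra
    haveI : Algebra.FinitePresentation Γ(X, W₁) Γ(Y, i ⁻¹ᵁ W₁) := h1
    exact Algebra.FinitePresentation.ker_fG_of_surjective (Algebra.ofId Γ(X, W₁) Γ(Y, i ⁻¹ᵁ W₁))
      (RegImm44.app_surjective i hW₁)
  obtain ⟨G, hG⟩ := hfg
  let φ := (X.presheaf.germ W₁ (i y) hy₁).hom
  letI : Algebra Γ(X, W₁) (X.presheaf.stalk (i y)) := X.presheaf.algebra_section_stalk ⟨i y, hy₁⟩
  let P := (hW₁.primeIdealOf ⟨i y, hy₁⟩).asIdeal
  haveI : IsLocalization.AtPrime (X.presheaf.stalk (i y)) P := hW₁.isLocalization_stalk ⟨i y, hy₁⟩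
  obtain ⟨n, w, hwT, hwspan, hwrel⟩ := exists_minimal (φ '' (G : Set Γ(X, W₁)))
    (Submodule.fg_span (G.finite_toSet.image φ))
  choose x hxG hxw using hwT
  have hgen : ∀ a : (G : Set Γ(X, W₁)), ∃ u : Γ(X, W₁), u ∉ P ∧ u * a.1 ∈ Ideal.span (Set.range x) := fun a => by
    have h1 : algebraMap Γ(X, W₁) (X.presheaf.stalk (i y)) a.1 ∈
        (Ideal.span (Set.range x)).map (algebraMap Γ(X, W₁) (X.presheaf.stalk (i y))) := by
      rw [← span_map]
      change φ a.1 ∈ Ideal.span (Set.range fun k => φ (x k))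
      rw [show (fun k => φ (x k)) = w from funext hxw, hwspan]
      exact Ideal.subset_span ⟨a.1, a.2, rfl⟩
    obtain ⟨m, hm, hmx⟩ := (IsLocalization.algebraMap_mem_map_algebraMap_iff P.primeCompl _ _ _).mp h1
    exact ⟨m, hm, hmx⟩
  choose u hu hux using hgen
  let g := ∏ a, u a
  have hg : g ∉ P := fun h1 => by
    obtain ⟨a, -, ha⟩ := (Ideal.IsPrime.prod_mem_iff (hp := inferInstance)).mp h1
    exact hu a ha
  have hgy : i y ∈ X.basicOpen g := (RegImm44.mem_basicOpen_iff hW₁ ⟨i y, hy₁⟩ g).mpr hg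
  let ρ := (X.presheaf.map (homOfLE (X.basicOpen_le g)).op).hom
  have hρu : ∀ a, IsUnit (ρ (u a)) := fun a => by
    refine isUnit_of_dvd_unit (map_dvd ρ (Finset.dvd_prod_of_mem u (Finset.mem_univ a))) ?_
    exact RingedSpace.isUnit_res_basicOpen _ g
  refine ⟨X.basicOpen g, hW₁.basicOpen g, hgy, List.ofFn fun k => ρ (x k),
    RegImm44.isClosedImmersion_restrict_of_le i (X.basicOpen_le g), ?_, ?_⟩
  · rw [RegImm44.ker_app_restrict i hW₁ (hW₁.basicOpen g) (X.basicOpen_le g), ← KReg44.span_range_eq_ofList,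
      span_map ρ x, ← hG]
    refine le_antisymm (Ideal.map_le_iff_le_comap.2 (Ideal.span_le.2 fun a ha => ?_))
      (Ideal.map_mono (Ideal.span_mono ?_))
    · change ρ a ∈ (Ideal.span (Set.range x)).map ρ
      rw [← Ideal.unit_mul_mem_iff_mem _ (hρu ⟨a, ha⟩), ← map_mul]
      exact Ideal.mem_map_of_mem _ (hux ⟨a, ha⟩)
    · rintro _ ⟨k, rfl⟩; exact hxG k
  · intro c hc k
    have hlen : (List.ofFn fun k => ρ (x k)).length = n := List.length_ofFn
    have hgerm : ∀ k', (X.presheaf.germ (X.basicOpen g) (i y) hgy).hom (List.ofFn fun k => ρ (x k))[k'] =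
        w (Fin.cast hlen k') := fun k' => by
      simp only [Fin.getElem_fin, List.getElem_ofFn]
      rw [show w (Fin.cast hlen k') = φ (x (Fin.cast hlen k')) from (hxw _).symm]
      exact TopCat.Presheaf.germ_res_apply X.presheaf (homOfLE (X.basicOpen_le g)) (i y) hgy _
    have hsum : ∑ k', c (Fin.cast hlen.symm k') * w k' = 0 := by
      rw [← hc]
      refine Fintype.sum_equiv (finCongr hlen.symm) _ _ fun k' => ?_
      rw [hgerm]; rfl
    exact hwrel _ hsum (Fin.cast hlen k)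

/-- The data around a point of a regular composite. -/
theorem exists_generators
    {φ₁ : (Scheme.Modules.pullback j).obj (Omega.conormal i) ⟶ Omega.conormal (j ≫ i)}
    (hφ₁ : OmegaSh.IsConormalMap (j ≫ i) i (𝟙 X) j φ₁)
    (z : Z) (hsplit : ∃ (U : Z.Opens) (ρ : (Scheme.Modules.restrictFunctor U.ι).obj (Omega.conormal (j ≫ i)) ⟶
        (Scheme.Modules.restrictFunctor U.ι).obj ((Scheme.Modules.pullback j).obj (Omega.conormal i))),
        z ∈ U ∧ (Scheme.Modules.restrictFunctor U.ι).map φ₁ ≫ ρ = 𝟙 _)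
    (S : ∀ R : CommRingCat.{u}, List R → Prop)
    (hS : ∀ (U V : X.Opens) (hle : V ≤ U), IsAffineOpen U → IsAffineOpen V → ∀ l,
      S Γ(X, U) l → S Γ(X, V) (l.map (X.presheaf.map (homOfLE hle).op).hom))
    {W₁ W₂ : X.Opens} (hW₁ : IsAffineOpen W₁) (hW₂ : IsAffineOpen W₂)
    (hz₁ : i (j z) ∈ W₁) (hz₂ : (j ≫ i) z ∈ W₂)
    [IsClosedImmersion (i ∣_ W₁)] [IsClosedImmersion ((j ≫ i) ∣_ W₂)]
    (f : List Γ(X, W₁)) (h : List Γ(X, W₂))
    (hfk : RingHom.ker (i.app W₁).hom = Ideal.ofList f) (hhk : RingHom.ker ((j ≫ i).app W₂).hom = Ideal.ofList h)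
    (hh : S Γ(X, W₂) h)
    (hrel : ∀ c : Fin f.length → X.presheaf.stalk (i (j z)),
      ∑ k, c k * (X.presheaf.germ W₁ (i (j z)) hz₁).hom f[k] = 0 → ∀ k, c k ∈ IsLocalRing.maximalIdeal _) :
    ∃ (W : X.Opens) (hle : W ≤ W₁), IsAffineOpen W ∧ (j ≫ i) z ∈ W ∧ IsClosedImmersion (i ∣_ W) ∧
      IsClosedImmersion (j ∣_ (i ⁻¹ᵁ W)) ∧
      ∃ h' s : List Γ(X, W), S Γ(X, W) h' ∧
        (s ++ f.map (X.presheaf.map (homOfLE hle).op).hom).length = h'.length ∧
        Ideal.ofList (s ++ f.map (X.presheaf.map (homOfLE hle).op).hom) = Ideal.ofList h' ∧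
        RingHom.ker ((j ≫ i).app W).hom = Ideal.ofList h' := by
  obtain ⟨a, b, hab, hza⟩ := exists_basicOpen_le_affine_inter hW₁ hW₂ ((j ≫ i) z) ⟨hz₁, hz₂⟩
  have hle₁ : X.basicOpen a ≤ W₁ := X.basicOpen_le a
  have hle₂ : X.basicOpen a ≤ W₂ := hab.le.trans (X.basicOpen_le b)
  have hW := hW₁.basicOpen a
  haveI := RegImm44.isClosedImmersion_restrict_of_le i hle₁
  haveI := RegImm44.isClosedImmersion_restrict_of_le (j ≫ i) hle₂
  have hfk' : RingHom.ker (i.app (X.basicOpen a)).hom = Ideal.ofList (f.map (X.presheaf.map (homOfLE hle₁).op).hom) := by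
    rw [RegImm44.ker_app_restrict i hW₁ hW hle₁, hfk, Ideal.map_ofList]
  have hhk' : RingHom.ker ((j ≫ i).app (X.basicOpen a)).hom =
      Ideal.ofList (h.map (X.presheaf.map (homOfLE hle₂).op).hom) := by
    rw [RegImm44.ker_app_restrict (j ≫ i) hW₂ hW hle₂, hhk, Ideal.map_ofList]
  have hlen : (f.map (X.presheaf.map (homOfLE hle₁).op).hom).length = f.length := List.length_map _
  obtain ⟨g, hzg, s, hlens, hgen⟩ := exists_chart_split i j hφ₁ z hsplit hW hza
    (f.map (X.presheaf.map (homOfLE hle₁).op).hom) (h.map (X.presheaf.map (homOfLE hle₂).op).hom) hfk' hhk'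
    (fun c hc k => by
      refine hrel (fun k' => c (Fin.cast hlen.symm k')) ?_ (Fin.cast hlen k)
      rw [← hc]
      refine Fintype.sum_equiv (finCongr hlen.symm) _ _ fun k' => ?_
      simp only [Fin.getElem_fin, List.getElem_map, finCongr_apply, Fin.val_cast]
      exact congrArg (c _ * ·) (TopCat.Presheaf.germ_res_apply X.presheaf (homOfLE hle₁) _ hza _).symm)
  have hle : X.basicOpen g ≤ X.basicOpen a := X.basicOpen_le g
  haveI := RegImm44.isClosedImmersion_restrict_of_le i hle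
  haveI := RegImm44.isClosedImmersion_restrict_of_le (j ≫ i) hle
  refine ⟨X.basicOpen g, hle.trans hle₁, hW.basicOpen g, hzg, inferInstance, isClosedImmersion_right i j _,
    (h.map (X.presheaf.map (homOfLE hle₂).op).hom).map (X.presheaf.map (homOfLE hle).op).hom,
    s.map (X.presheaf.map (homOfLE hle).op).hom, hS _ _ hle hW (hW.basicOpen g) _ (hS _ _ hle₂ hW₂ hW _ hh), ?_, ?_, ?_⟩
  · simp only [List.length_append, List.length_map] at hlens ⊢
    exact hlens
  · rw [← Ideal.map_ofList _ (h.map _), ← hhk', ← RegImm44.ker_app_restrict (j ≫ i) hW (hW.basicOpen g) hle,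
      ← hgen, List.map_append, List.map_map]
    congr 2
    exact List.map_congr_left fun t _ => (map_res_res hle hle₁ t).symm
  · rw [RegImm44.ker_app_restrict (j ≫ i) hW (hW.basicOpen g) hle, hhk', Ideal.map_ofList]

theorem ker_right {W : X.Opens} (hW : IsAffineOpen W) [IsClosedImmersion (i ∣_ W)] (f s h : List Γ(X, W))
    (hf : RingHom.ker (i.app W).hom = Ideal.ofList f) (hgen : Ideal.ofList (s ++ f) = Ideal.ofList h)
    (hh : RingHom.ker ((j ≫ i).app W).hom = Ideal.ofList h) :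
    RingHom.ker (j.app (i ⁻¹ᵁ W)).hom = Ideal.ofList (s.map (i.app W).hom) := by
  have hcomap : RingHom.ker ((j ≫ i).app W).hom =
      (RingHom.ker (j.app (i ⁻¹ᵁ W)).hom).comap (i.app W).hom := by
    exact (RingHom.comap_ker (j.app (i ⁻¹ᵁ W)).hom (i.app W).hom).symm
  rw [← Ideal.map_comap_of_surjective (i.app W).hom (RegImm44.app_surjective i hW)
    (RingHom.ker (j.app (i ⁻¹ᵁ W)).hom), ← hcomap, hh, ← hgen]
  rw [Ideal.ofList_append, Ideal.map_sup, ← hf, (Ideal.map_eq_bot_iff_le_ker _).mpr le_rfl, sup_bot_eq,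
    Ideal.map_ofList]

/-- Quasi-regularity and `H₁`-regularity of the composite pass to the first immersion. -/
theorem regAt_of_split [LocallyOfFinitePresentation i]
    {φ₁ : (Scheme.Modules.pullback j).obj (Omega.conormal i) ⟶ Omega.conormal (j ≫ i)}
    (hφ₁ : OmegaSh.IsConormalMap (j ≫ i) i (𝟙 X) j φ₁)
    (z : Z) (hsplit : ∃ (U : Z.Opens) (ρ : (Scheme.Modules.restrictFunctor U.ι).obj (Omega.conormal (j ≫ i)) ⟶
        (Scheme.Modules.restrictFunctor U.ι).obj ((Scheme.Modules.pullback j).obj (Omega.conormal i))),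
        z ∈ U ∧ (Scheme.Modules.restrictFunctor U.ι).map φ₁ ≫ ρ = 𝟙 _)
    {b : Prop} (hz : RegAt (j ≫ i) b z) : RegAt j b z := by
  obtain ⟨⟨W₂, hW₂⟩, hz₂, hc₂, c, l, hl, hker⟩ := hz
  haveI := hc₂
  obtain ⟨W₁, hW₁, hz₁, f, hc₁, hfk, hrel⟩ := exists_minimal_chart i (j z)
  haveI := hc₁
  obtain ⟨W, hle, hW, hzW, hcW, hcj, h', s, hh', hlen, hspan, hk⟩ :=
    exists_generators i j hφ₁ z hsplit (fun R l => RegL b (R := R) l)
      (fun U V hle hU hV l hl => hl.map _ (RegImm44.flat_restrictionMap hU hV hle)) hW₁ hW₂ hz₁ hz₂ f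
      (List.ofFn l) hfk (by rw [← KReg44.span_range_eq_ofList, hker])
      (hl.congr List.length_ofFn.symm fun k => by simp) hrel
  haveI := hcW
  let fW := f.map (X.presheaf.map (homOfLE hle).op).hom
  have hfW : RingHom.ker (i.app W).hom = Ideal.ofList fW := by
    rw [RegImm44.ker_app_restrict i hW₁ hW hle, hfk, Ideal.map_ofList]
  have hreg : RegL b (fW ++ s) := RegL.of_length_eq hh' (by rw [← hspan, Ideal.ofList_append, Ideal.ofList_append,
      sup_comm]) (by simpa [fW, add_comm] using hlen)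
  have hsB := RegL.truncate fW (i.app W).hom (RegImm44.app_surjective i hW) hfW hreg
  refine ⟨⟨i ⁻¹ᵁ W, RegImm44.isAffineOpen_preimage i hW⟩, hzW, hcj, _, _, hsB, ?_⟩
  rw [ker_right i j hW fW s h' hfW hspan hk, Ideal.ofList, Set.range_list_get]

/-- Koszul regularity of both passes to the first immersion. -/
theorem koszul_of_split (hi : RegImm.IsRegularImmersion .koszul i) (hij : RegImm.IsRegularImmersion .koszul (j ≫ i))
    {φ₁ : (Scheme.Modules.pullback j).obj (Omega.conormal i) ⟶ Omega.conormal (j ≫ i)}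
    (hφ₁ : OmegaSh.IsConormalMap (j ≫ i) i (𝟙 X) j φ₁)
    (hsplit : ∀ z : Z, ∃ (U : Z.Opens) (ρ : (Scheme.Modules.restrictFunctor U.ι).obj (Omega.conormal (j ≫ i)) ⟶
        (Scheme.Modules.restrictFunctor U.ι).obj ((Scheme.Modules.pullback j).obj (Omega.conormal i))),
        z ∈ U ∧ (Scheme.Modules.restrictFunctor U.ι).map φ₁ ≫ ρ = 𝟙 _) :
    RegImm.IsRegularImmersion .koszul j := by
  refine ⟨inferInstance, fun z => ?_⟩
  obtain ⟨⟨W₁, hW₁⟩, hz₁, hc₁, f, hf, hfk⟩ := hi.2 (j z)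
  obtain ⟨⟨W₂, hW₂⟩, hz₂, hc₂, h, hh, hhk⟩ := hij.2 z
  haveI := hc₁
  haveI := hc₂
  obtain ⟨W, hle, hW, hzW, hcW, hcj, h', s, hh', hlen, hspan, hk⟩ :=
    exists_generators i j hφ₁ z (hsplit z) (fun R l => LCI.IsKoszulRegularSeq R l)
      (fun U V hle hU hV l hl => KReg44.isKoszulRegularSeq_map _ (RegImm44.flat_restrictionMap hU hV hle) hl)
      hW₁ hW₂ hz₁ hz₂ f h hfk hhk hh (fun c hc k => by
        let g₁ := (X.presheaf.germ W₁ (i (j z)) hz₁).hom
        letI : Algebra Γ(X, W₁) (X.presheaf.stalk (i (j z))) := X.presheaf.algebra_section_stalk ⟨i (j z), hz₁⟩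
        let P := (hW₁.primeIdealOf ⟨i (j z), hz₁⟩).asIdeal
        haveI : IsLocalization.AtPrime (X.presheaf.stalk (i (j z))) P := hW₁.isLocalization_stalk ⟨i (j z), hz₁⟩
        let a : Fin f.length → X.presheaf.stalk (i (j z)) := fun k => g₁ f[k]
        have hareg : LCI.IsKoszulRegularSeq _ (List.ofFn a) := by
          rw [show a = g₁ ∘ (fun k => f[k]) from rfl, ← List.map_ofFn,
            show List.ofFn (fun k : Fin f.length => f[k]) = f from List.ofFn_getElem]
          exact KReg44.isKoszulRegularSeq_map g₁ (RingHom.flat_algebraMap_iff.mpr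
            (IsLocalization.flat _ P.primeCompl)) hf
        have hmax : Ideal.span (Set.range a) ≤ IsLocalRing.maximalIdeal _ := by
          rw [Ideal.span_le]
          rintro _ ⟨k', rfl⟩
          rw [SetLike.mem_coe, IsLocalRing.mem_maximalIdeal]
          intro hu
          have h1 := hu.map (i.stalkMap (j z)).hom
          have h2 : (i.stalkMap (j z)).hom (g₁ f[k']) = 0 := by
            rw [← RingHom.mem_ker, Omega.ConormalZero.ker_stalkMap_eq i hW₁ (RegImm44.isAffineOpen_preimage i hW₁) hz₁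
              (RegImm44.app_surjective i hW₁), hfk]
            exact Ideal.mem_map_of_mem _ (Ideal.subset_span (List.getElem_mem _))
          rw [h2] at h1
          exact not_isUnit_zero h1
        exact hmax (KReg44.coeff_mem_of_relation a hareg hc k))
  haveI := hcW
  let fW := f.map (X.presheaf.map (homOfLE hle).op).hom
  have hfW : RingHom.ker (i.app W).hom = Ideal.ofList fW := by
    rw [RegImm44.ker_app_restrict i hW₁ hW hle, hfk, Ideal.map_ofList]
  have hreg : LCI.IsKoszulRegularSeq Γ(X, W) (s ++ fW) :=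
    KReg44.isKoszulRegularSeq_of_length_eq hh' hspan.symm hlen
  have hsB := KReg44.isKoszulRegularSeq_of_append (i.app W).hom
    (KReg44.isKoszulRegularSeq_map _ (RegImm44.flat_restrictionMap hW₁ hW hle) hf)
    (RegImm44.app_surjective i hW) hfW hreg
  exact ⟨⟨i ⁻¹ᵁ W, RegImm44.isAffineOpen_preimage i hW⟩, hzW, hcj, _, hsB, ker_right i j hW fW s h' hfW hspan hk⟩

end Groth.Agent.SmDesc77
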