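import Groth.Agent.SmDesc77.SplitMain
import Groth.Agent.SmDesc77.StalkInj
import Groth.Agent.Omega.H1Conormal
import Groth.Agent.CInt77.RegFactor
import Groth.Agent.KFlat.FlatPull

/-!
# Regular immersions and split conormal sequences near a point
-/

set_option autoImplicit false
set_option linter.style.haveILetI false

universe u

open CategoryTheory CategoryTheory.Limits AlgebraicGeometry TopologicalSpace RingTheory.Sequence

noncomputable section

namespace Groth.Agent.SmDesc77

open OmegaSh Omega Omega.Basic Omega.Stalks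

variable {X Y Z : Scheme.{u}} (i : Y ⟶ X) (j : Z ⟶ Y) [IsImmersion i] [IsImmersion j] [QuasiCompact i] [QuasiCompact j]

omit [QuasiCompact i] [QuasiCompact j] in
/-- Regular immersions compose at a point. -/
theorem regularAt_comp [IsLocallyNoetherian X] (z : Z)
    (hj : RegImm.IsRegularImmersionAt .regular j z) (hi : RegImm.IsRegularImmersionAt .regular i (j z)) :
    RegImm.IsRegularImmersionAt .regular (j ≫ i) z := by
  haveI : IsLocallyNoetherian Y := LocallyOfFiniteType.isLocallyNoetherian i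
  obtain ⟨⟨U, hU⟩, hzU, hci, f, hf, hfk⟩ := CInt77.isRegularImmersionAt_kind .regular .koszul hi
  obtain ⟨⟨V, hV⟩, hzV, hcj, g, hg, hgk⟩ := CInt77.isRegularImmersionAt_kind .regular .koszul hj
  haveI := hci
  haveI := hcj
  obtain ⟨W, hzW, hcW, rs, -, hrs, hker⟩ := RegImm44.exists_chart_comp i j z hU hzU hf hfk hV hzV hg hgk
  exact CInt77.isRegularImmersionAt_kind .koszul .regular ⟨W, hzW, hcW, rs, hrs, hker⟩

theorem comp_eq_zero
    {a : (Scheme.Modules.pullback j).obj (Omega.conormal i) ⟶ Omega.conormal (j ≫ i)}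
    (ha : IsConormalMap (j ≫ i) i (𝟙 X) j a)
    {b : (Scheme.Modules.pullback (𝟙 Z)).obj (Omega.conormal (j ≫ i)) ⟶ Omega.conormal j}
    (hb : IsConormalMap j (j ≫ i) i (𝟙 Z) b) :
    a ≫ ((Scheme.Modules.pullbackId Z).inv.app (Omega.conormal (j ≫ i)) ≫ b) = 0 := by
  obtain ⟨w₀, -, -⟩ := ImmersionSeq.exact_and_epi ha hb
  let e := Scheme.Modules.pullbackId Z
  have hn : a ≫ e.inv.app _ = e.inv.app _ ≫ (Scheme.Modules.pullback (𝟙 Z)).map a := e.inv.naturality a
  refine ((Category.assoc _ _ _).symm.trans (congrArg (· ≫ b) hn)).trans ?_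
  exact (Category.assoc _ _ _).trans ((congrArg _ w₀).trans comp_zero)

/-- Near a point where the second immersion is regular the conormal sequence splits. -/
theorem exists_splitting [IsLocallyNoetherian X]
    {a : (Scheme.Modules.pullback j).obj (Omega.conormal i) ⟶ Omega.conormal (j ≫ i)}
    (ha : IsConormalMap (j ≫ i) i (𝟙 X) j a)
    {b : (Scheme.Modules.pullback (𝟙 Z)).obj (Omega.conormal (j ≫ i)) ⟶ Omega.conormal j}
    (hb : IsConormalMap j (j ≫ i) i (𝟙 Z) b)
    (z : Z) (hj : RegImm.IsRegularImmersionAt .regular j z) :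
    ∃ U : Z.Opens, z ∈ U ∧
      ∀ w : (Scheme.Modules.restrictFunctor U.ι).map a ≫ (Scheme.Modules.restrictFunctor U.ι).map
          ((Scheme.Modules.pullbackId Z).inv.app (Omega.conormal (j ≫ i)) ≫ b) = 0,
        Nonempty (ShortComplex.mk ((Scheme.Modules.restrictFunctor U.ι).map a) ((Scheme.Modules.restrictFunctor U.ι).map
          ((Scheme.Modules.pullbackId Z).inv.app (Omega.conormal (j ≫ i)) ≫ b)) w).Splitting := by
  haveI : IsLocallyNoetherian Y := LocallyOfFiniteType.isLocallyNoetherian i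
  obtain ⟨⟨V, hV⟩, hzV, hcj, rs, hrs, hker⟩ := CInt77.isRegularImmersionAt_kind .regular .h1 hj
  haveI := hcj
  let g := (Scheme.Modules.pullbackId Z).inv.app (Omega.conormal (j ≫ i)) ≫ b
  have hU : IsAffineOpen (j ⁻¹ᵁ V) := RegImm44.isAffineOpen_preimage j hV
  haveI : IsAffine (j ⁻¹ᵁ V).toScheme := hU
  refine ⟨j ⁻¹ᵁ V, hzV, fun w => ?_⟩
  -- quasi-coherence
  haveI : (ClSub.idealMod j.ker).IsQuasicoherent := AmpleLib.isQCoh_idealMod _
  haveI : (ClSub.idealMod (j ≫ i).ker).IsQuasicoherent := AmpleLib.isQCoh_idealMod _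
  haveI : (Omega.conormal j).IsQuasicoherent :=
    inferInstanceAs ((Scheme.Modules.pullback j).obj (ClSub.idealMod j.ker)).IsQuasicoherent
  haveI : (Omega.conormal (j ≫ i)).IsQuasicoherent :=
    inferInstanceAs ((Scheme.Modules.pullback (j ≫ i)).obj (ClSub.idealMod (j ≫ i).ker)).IsQuasicoherent
  -- the last term is free
  letI := (j.app V).hom.toAlgebra
  obtain ⟨_, _⟩ := H1Conormal.finite_free_tensor (B := Γ(Z, j ⁻¹ᵁ V)) rs.get hrs (RingHom.ker (j.app V).hom)
    (by rw [Set.range_list_get, hker]) le_rfl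
  obtain ⟨e⟩ := ConormalProj.nonempty_secEquiv j hV hU
  haveI := Module.Finite.equiv e
  haveI := Module.Free.of_equiv e
  let B₀ := Module.Free.chooseBasis Γ(Z, j ⁻¹ᵁ V) Γ(Omega.conormal j, j ⁻¹ᵁ V)
  obtain ⟨n, ⟨eF⟩⟩ := Props.QProj.nonempty_restrict_iso_free (Omega.conormal j) hU
    (B₀.reindex (Fintype.equivFin _))
  -- epimorphism
  obtain ⟨hepi, him⟩ := ImmersionSeq.epi_and_image_eq_kernel ha hb
  haveI : Epi g := @epi_comp _ _ _ _ _ ((Scheme.Modules.pullbackId Z).inv.app _)
    (inferInstance : Epi ((Scheme.Modules.pullbackId Z).app _).inv) _ hepi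
  have hex : (ShortComplex.mk a g (comp_eq_zero i j ha hb)).Exact :=
    (ShortComplex.exact_iff_image_eq_kernel _).mpr him
  let R := Scheme.Modules.restrictFunctor (j ⁻¹ᵁ V).ι
  haveI : PreservesColimitsOfSize.{0, 0} R :=
    (Scheme.Modules.restrictAdjunction (j ⁻¹ᵁ V).ι).leftAdjoint_preservesColimits
  haveI : Epi (R.map g) := inferInstance
  haveI : (R.obj (Omega.conormal (j ≫ i))).IsQuasicoherent :=
    Scheme.Modules.isQuasicoherent_restrictFunctor _ _
  haveI : (R.obj ((𝟭 Z.Modules).obj (Omega.conormal (j ≫ i)))).IsQuasicoherent :=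
    inferInstanceAs (R.obj (Omega.conormal (j ≫ i))).IsQuasicoherent
  haveI : (R.obj (Omega.conormal j)).IsQuasicoherent :=
    Scheme.Modules.isQuasicoherent_restrictFunctor _ _
  obtain ⟨t, ht⟩ := exists_lift_free (W := (j ⁻¹ᵁ V).toScheme) (R.map g) n eF.inv
  have hmono : Mono (R.map a) := mono_restrict a (j ⁻¹ᵁ V) fun z' hz' => by
    refine injective_stalk_of_gen z' ?_ ha hb.1
    letI : Algebra Γ(Y, V) (Y.presheaf.stalk (j z')) := Y.presheaf.algebra_section_stalk ⟨j z', hz'⟩
    haveI := hV.isLocalization_stalk ⟨j z', hz'⟩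
    haveI : Module.Flat Γ(Y, V) (Y.presheaf.stalk (j z')) :=
      IsLocalization.flat _ (hV.primeIdealOf ⟨j z', hz'⟩).asIdeal.primeCompl
    refine ⟨rs.length, fun k => algebraMap Γ(Y, V) (Y.presheaf.stalk (j z')) (rs.get k),
      RegImm38.isH1Regular_of_flat hrs, ?_⟩
    rw [show (fun k => algebraMap Γ(Y, V) (Y.presheaf.stalk (j z')) (rs.get k)) = algebraMap _ _ ∘ rs.get from rfl,
      Set.range_comp, ← Ideal.map_span, Set.range_list_get,
      Omega.ConormalZero.ker_stalkMap_eq j hV hU hz' (RegImm44.app_surjective j hV), hker]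
    rfl
  refine ⟨ShortComplex.Splitting.ofExactOfSection _ (hex.map R) (eF.hom ≫ t) ?_ hmono⟩
  exact (Category.assoc _ _ _).trans ((congrArg (eF.hom ≫ ·) ht).trans eF.hom_inv_id)

/-- A regular composite with split conormal sequence has both factors regular. -/
theorem regularAt_of_split [IsLocallyNoetherian X]
    {a : (Scheme.Modules.pullback j).obj (Omega.conormal i) ⟶ Omega.conormal (j ≫ i)}
    (ha : IsConormalMap (j ≫ i) i (𝟙 X) j a) (z : Z)
    (hsplit : ∃ (U : Z.Opens) (ρ : (Scheme.Modules.restrictFunctor U.ι).obj (Omega.conormal (j ≫ i)) ⟶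
        (Scheme.Modules.restrictFunctor U.ι).obj ((Scheme.Modules.pullback j).obj (Omega.conormal i))),
        z ∈ U ∧ (Scheme.Modules.restrictFunctor U.ι).map a ≫ ρ = 𝟙 _)
    (hz : RegImm.IsRegularImmersionAt .regular (j ≫ i) z) :
    RegImm.IsRegularImmersionAt .regular j z ∧ RegImm.IsRegularImmersionAt .regular i (j z) := by
  haveI : IsLocallyNoetherian Y := LocallyOfFiniteType.isLocallyNoetherian i
  obtain ⟨⟨W₂, hW₂⟩, hz₂, hc₂, h, hh, hker⟩ := CInt77.isRegularImmersionAt_kind .regular .quasi hz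
  haveI := hc₂
  obtain ⟨W₁, hW₁, hz₁, f, hc₁, hfk, hrel⟩ := exists_minimal_chart i (j z)
  haveI := hc₁
  obtain ⟨W, hle, hW, hzW, hcW, hcj, h', s, hh', hlen, hspan, hk⟩ :=
    exists_generators i j ha z hsplit (fun R l => RegL False (R := R) l)
      (fun U V hle hU hV l hl => hl.map _ (RegImm44.flat_restrictionMap hU hV hle)) hW₁ hW₂ hz₁ hz₂ f
      h hfk hker ⟨hh, False.elim⟩ hrel
  haveI := hcW
  let fW := f.map (X.presheaf.map (homOfLE hle).op).hom
  have hfW : RingHom.ker (i.app W).hom = Ideal.ofList fW := by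
    rw [RegImm44.ker_app_restrict i hW₁ hW hle, hfk, Ideal.map_ofList]
  have hspan' : Ideal.ofList h' = Ideal.ofList (fW ++ s) := by
    rw [← hspan, Ideal.ofList_append, Ideal.ofList_append, sup_comm]
  have hreg : RegL False (fW ++ s) := RegL.of_length_eq hh' hspan' (by simpa [fW, add_comm] using hlen)
  have hsB := RegL.truncate fW (i.app W).hom (RegImm44.app_surjective i hW) hfW hreg
  refine ⟨CInt77.isRegularImmersionAt_kind .quasi .regular
    ⟨⟨i ⁻¹ᵁ W, RegImm44.isAffineOpen_preimage i hW⟩, hzW, hcj, _, hsB.1, ker_right i j hW fW s h' hfW hspan hk⟩, ?_⟩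
  haveI : IsNoetherianRing Γ(X, W) := IsLocallyNoetherian.component_noetherian ⟨W, hW⟩
  let P := (hW.primeIdealOf ⟨(j ≫ i) z, hzW⟩).asIdeal
  let A := Localization.AtPrime P
  let φ := algebraMap Γ(X, W) A
  have : IsNoetherianRing A := IsLocalization.isNoetherianRing P.primeCompl A inferInstance
  have hq : CAlgX.IsQuasiRegular fun k => φ ((fW ++ s).get k) :=
    CAlg48.QRBase.isQuasiRegular_of_flat (f := (fW ++ s).get) hreg.1
  have hjac : ∀ k, φ ((fW ++ s).get k) ∈ Ring.jacobson A := fun k => by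
    rw [IsLocalRing.ringJacobson_eq_maximalIdeal, IsLocalization.AtPrime.to_map_mem_maximal_iff A P]
    exact RegImm44.ker_le_primeIdealOf (j ≫ i) hW z hzW (hk ▸ hspan' ▸ Ideal.subset_span (List.get_mem _ k))
  have hw := SymGr.Regular.isWeaklyRegular_of_isQuasiRegular _ _ hjac hq
  rw [show List.ofFn (fun k => φ ((fW ++ s).get k)) = fW.map φ ++ s.map φ by
    rw [← List.map_append]
    conv_rhs => rw [← List.ofFn_get (fW ++ s), List.map_ofFn]
    rfl, isWeaklyRegular_append_iff] at hw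
  exact CInt77.isRegularImmersionAt_kind .koszul .regular
    (CInt77.isRegularImmersionAt_of_atPrime i hW (j z) hzW P rfl (fW.map φ) hw.1
      (by rw [hfW, Ideal.map_ofList]))

end Groth.Agent.SmDesc77
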