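import Mathlib.RingTheory.LocalRing.Module
import Mathlib.LinearAlgebra.Dimension.StrongRankCondition
import Mathlib.RingTheory.Localization.AtPrime.Basic

/-!
# Selecting few generators in a local ring
-/

set_option autoImplicit false

universe u

open TensorProduct

namespace Groth.Agent.SmDesc77

/-- Out of any generating set of a `c`-generated ideal of a local ring one selects `c` generators,
padding by zero. -/
theorem exists_select {R : Type u} [CommRing R] [IsLocalRing R] (T : Set R) {c : ℕ} (l : Fin c → R)
    (h : Ideal.span T = Ideal.span (Set.range l)) :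
    ∃ s : Fin c → R, (∀ k, s k ∈ T ∨ s k = 0) ∧ Ideal.span (Set.range s) = Ideal.span T := by
  classical
  let N : Ideal R := Ideal.span T
  let l' : Fin c → N := fun k => ⟨l k, show l k ∈ Ideal.span T by rw [h]; exact Ideal.subset_span ⟨k, rfl⟩⟩
  have hl' : Submodule.span R (Set.range l') = ⊤ := by
    apply Submodule.map_injective_of_injective N.subtype_injective
    rw [Submodule.map_span, ← Set.range_comp, Submodule.map_subtype_top]
    exact h.symm
  haveI : Module.Finite R N := ⟨⟨Finset.univ.image l', by simpa using hl'⟩⟩
  let T' : Set N := Subtype.val ⁻¹' T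
  have hT' : Submodule.span R T' = ⊤ := Submodule.span_span_coe_preimage
  let K := IsLocalRing.ResidueField R
  let m := TensorProduct.mk R K N 1
  have hsK : Function.Surjective (algebraMap R K) := Ideal.Quotient.mk_surjective
  have hm : Function.Surjective m := TensorProduct.mk_surjective R N K hsK
  have hKtop : ∀ S : Set N, Submodule.span R S = ⊤ → Submodule.span K (m '' S) = ⊤ := fun S hS => by
    apply Submodule.restrictScalars_injective R K (K ⊗[R] N)
    rw [Submodule.restrictScalars_span R K hsK, Submodule.restrictScalars_top, ← Submodule.map_span, hS,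
      Submodule.map_top, LinearMap.range_eq_top.2 hm]
  obtain ⟨v, hv, hvspan, -⟩ := Submodule.exists_fun_fin_finrank_span_eq K (m '' T')
  have hle : Module.finrank K (Submodule.span K (m '' T')) ≤ c := by
    rw [hKtop _ hT', ← hKtop _ hl', ← Set.range_comp]
    exact (finrank_range_le_card (R := K) (m ∘ l')).trans_eq (Fintype.card_fin c)
  choose w hwT hwv using hv
  let s : Fin c → R := fun k => if hk : k.1 < Module.finrank K (Submodule.span K (m '' T')) then
    (w ⟨k.1, hk⟩ : N).1 else 0
  have hw : Submodule.span R (Set.range w) = ⊤ := by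
    rw [← IsLocalRing.map_tensorProduct_mk_eq_top, Submodule.map_span, ← Set.range_comp,
      ← Submodule.restrictScalars_span R K hsK, show (m ∘ w) = v from funext hwv]
    exact (Submodule.restrictScalars_eq_top_iff R K _).2 (hvspan.trans (hKtop _ hT'))
  refine ⟨s, fun k => ?_, ?_⟩
  · by_cases hk : k.1 < Module.finrank K (Submodule.span K (m '' T'))
    · exact Or.inl (by simp only [s, dif_pos hk]; exact hwT _)
    · exact Or.inr (dif_neg hk)
  · refine le_antisymm (Ideal.span_le.2 ?_) ?_
    · rintro _ ⟨k, rfl⟩
      simp only [s]
      split_ifs with hk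
      · exact (w _).2
      · exact zero_mem _
    · have h1 := congrArg (Submodule.map N.subtype) hw
      rw [Submodule.map_span, ← Set.range_comp, Submodule.map_subtype_top] at h1
      refine h1.ge.trans (Submodule.span_mono ?_)
      rintro _ ⟨j, rfl⟩
      exact ⟨⟨j.1, j.2.trans_le hle⟩, dif_pos (show (⟨j.1, j.2.trans_le hle⟩ : Fin c).1 < _ from j.2)⟩

end Groth.Agent.SmDesc77
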