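import Groth.Agent.SmDesc77.Core
import Groth.Agent.SmDesc77.Select

/-!
# Regular ideals along standard smooth maps with a section
-/

set_option autoImplicit false

universe u

open MvPolynomial

noncomputable section

namespace Groth.Agent.SmDesc77

variable {R : Type u} [CommRing R]

/-- The ideal is generated near every prime containing it by a sequence regular in the sense of `Reg b`. -/
def LocReg (b : Prop) (J : Ideal R) : Prop :=
  ∀ P : PrimeSpectrum R, J ≤ P.asIdeal → ∃ g ∉ P.asIdeal, ∃ (c : ℕ) (f : Fin c → Localization.Away g),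
    Reg b f ∧ Ideal.span (Set.range f) = J.map (algebraMap R (Localization.Away g))

theorem exists_denominator (q : Ideal R) [q.IsPrime] {K : Ideal R} {x : R}
    (h : algebraMap R (Localization.AtPrime q) x ∈ K.map (algebraMap R (Localization.AtPrime q))) :
    ∃ u ∉ q, u * x ∈ K := by
  obtain ⟨u, hu, hux⟩ := (IsLocalization.algebraMap_mem_map_algebraMap_iff q.primeCompl _ K x).1 h
  exact ⟨u, hu, hux⟩

theorem LocReg.of_section {b : Prop} {A D B : Type u} [CommRing A] [CommRing D] [CommRing B]
    [Algebra D B] [Algebra.Etale D B] (J : Ideal B) (C : A →+* D) (σ : D →+* A) (hσC : ∀ x, σ (C x) = x)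
    {Q : Type u} [CommRing Q] (γ : B →+* Q) (hγ : RingHom.ker γ = J)
    (hcomp : ∀ d, γ (algebraMap D B d) = γ (algebraMap D B (C (σ d))))
    (hsurj : Function.Surjective ((γ.comp (algebraMap D B)).comp C))
    (h : LocReg b J) : LocReg b (RingHom.ker ((γ.comp (algebraMap D B)).comp C)) := by
  classical
  intro p hIp
  let J₀ := J.comap (algebraMap D B)
  let I := RingHom.ker ((γ.comp (algebraMap D B)).comp C)
  have hJ₀mem : ∀ {d}, d ∈ J₀ ↔ γ (algebraMap D B d) = 0 := by
    intro d; rw [Ideal.mem_comap, ← hγ, RingHom.mem_ker]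
  have hIσ : ∀ {d}, d ∈ J₀ ↔ σ d ∈ I := by
    intro d; rw [hJ₀mem, hcomp]; rfl
  -- the generators
  let T : Set D := {d | σ d = 0} ∪ C '' (I : Set A)
  have hT : J₀ = Ideal.span T := by
    refine le_antisymm (fun d hd => ?_) (Ideal.span_le.2 ?_)
    · rw [show d = (d - C (σ d)) + C (σ d) by ring]
      exact add_mem (Ideal.subset_span (Or.inl (by simp [hσC])))
        (Ideal.subset_span (Or.inr ⟨_, hIσ.1 hd, rfl⟩))
    · rintro d (hd | ⟨a, ha, rfl⟩)
      · exact hIσ.2 (by rw [show σ d = 0 from hd]; exact zero_mem _)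
      · exact hIσ.2 (by rw [hσC]; exact ha)
  -- the points
  let P : PrimeSpectrum D := PrimeSpectrum.comap σ p
  have hJ₀P : J₀ ≤ P.asIdeal := fun d hd => hIp (hIσ.1 hd)
  have hs : Function.Surjective ((Ideal.Quotient.mk J).comp (algebraMap D B)) := fun x => by
    obtain ⟨x, rfl⟩ := Ideal.Quotient.mk_surjective x
    obtain ⟨a, ha⟩ := hsurj (γ x)
    refine ⟨C a, Ideal.Quotient.eq.2 ?_⟩
    rw [← hγ, RingHom.mem_ker, map_sub, sub_eq_zero]
    exact ha
  let π : D →+* B ⧸ J := (Ideal.Quotient.mk J).comp (algebraMap D B)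
  have hπk : RingHom.ker π = J₀ := by
    rw [← RingHom.comap_ker, Ideal.mk_ker]
  haveI hP' : (P.asIdeal.map π).IsPrime := Ideal.map_isPrime_of_surjective hs (hπk ▸ hJ₀P)
  let q : PrimeSpectrum B := ⟨(P.asIdeal.map π).comap (Ideal.Quotient.mk J), inferInstance⟩
  have hqP : q.asIdeal.comap (algebraMap D B) = P.asIdeal := by
    rw [show q.asIdeal.comap (algebraMap D B) = (P.asIdeal.map π).comap π from Ideal.comap_comap _ _,
      Ideal.comap_map_of_surjective _ hs, ← RingHom.ker_eq_comap_bot, hπk]
    exact sup_eq_left.2 hJ₀P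
  have hJq : J ≤ q.asIdeal := by
    conv_lhs => rw [← Ideal.mk_ker (I := J)]
    exact Ideal.comap_mono bot_le
  obtain ⟨t, ht1, ht⟩ := KReg44.exists_one_sub_mem J hs
  have htq : t ∉ q.asIdeal := fun h1 =>
    q.isPrime.ne_top ((Ideal.eq_top_iff_one _).2 (by simpa using add_mem (hJq ht1) h1))
  obtain ⟨g₀, hg₀, c, l, hl, hspan⟩ := h q hJq
  -- numerators of the given generators
  choose xs hxs using fun k => IsLocalization.surj (Submonoid.powers g₀) (l k)
  let x : Fin c → B := fun k => (xs k).1
  have hxspan : Ideal.span (Set.range fun k => algebraMap B (Localization.Away g₀) (x k)) =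
      J.map (algebraMap B (Localization.Away g₀)) := by
    rw [← hspan]
    refine le_antisymm (Ideal.span_le.2 ?_) (Ideal.span_le.2 ?_)
    · rintro _ ⟨k, rfl⟩
      simp only [x, SetLike.mem_coe, ← hxs k]
      exact Ideal.mul_mem_right _ _ (Ideal.subset_span ⟨k, rfl⟩)
    · rintro _ ⟨k, rfl⟩
      rw [SetLike.mem_coe, ← Ideal.mul_unit_mem_iff_mem _ (IsLocalization.map_units _ (xs k).2), hxs k]
      exact Ideal.subset_span ⟨k, rfl⟩
  -- selection at the point
  let L := Localization.AtPrime q.asIdeal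
  have hg₀L : IsUnit (algebraMap B L g₀) := IsLocalization.map_units L (⟨g₀, hg₀⟩ : q.asIdeal.primeCompl)
  let lam : Localization.Away g₀ →+* L := IsLocalization.Away.lift g₀ hg₀L
  have hlam : lam.comp (algebraMap B _) = algebraMap B L := IsLocalization.Away.lift_comp _ _
  have htL : IsUnit (algebraMap B L t) := IsLocalization.map_units L (⟨t, htq⟩ : q.asIdeal.primeCompl)
  have hJL : Ideal.span ((fun d => algebraMap B L (algebraMap D B d)) '' T) =
      Ideal.span (Set.range fun k => algebraMap B L (x k)) := by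
    have h2 := congrArg (Ideal.map lam) hxspan
    rw [← span_map, Ideal.map_map, hlam] at h2
    simp only [← RingHom.comp_apply, hlam] at h2
    rw [h2]
    rw [← KReg44.map_comap_eq_of_mem J ht (algebraMap B L) htL, show J.comap (algebraMap D B) = J₀ from rfl, hT,
      Ideal.map_span]
    rfl
  obtain ⟨s, hs', hsspan⟩ := exists_select _ _ hJL
  have hch : ∀ k, ∃ d : D, (σ d = 0 ∨ ∃ a, C a = d) ∧ d ∈ J₀ ∧ algebraMap B L (algebraMap D B d) = s k := fun k => by
    rcases hs' k with ⟨d, hd, hd'⟩ | h0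
    · refine ⟨d, ?_, hT ▸ Ideal.subset_span hd, hd'⟩
      rcases hd with hd | ⟨a, -, rfl⟩
      · exact Or.inl hd
      · exact Or.inr ⟨a, rfl⟩
    · exact ⟨0, Or.inl (map_zero σ), zero_mem _, by simp [h0]⟩
  choose d hdtype hdJ hds using hch
  -- the selection generates near the point
  let K : Ideal B := Ideal.span (Set.range fun k => algebraMap D B (d k))
  have hKL : ∀ k, algebraMap B L (x k) ∈ K.map (algebraMap B L) := fun k => by
    rw [← span_map, show (fun k => algebraMap B L (algebraMap D B (d k))) = s from funext hds, hsspan, hJL]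
    exact Ideal.subset_span ⟨k, rfl⟩
  choose u hu huK using fun k => exists_denominator q.asIdeal (hKL k)
  let G := g₀ * t * ∏ k, u k
  have hGq : G ∉ q.asIdeal := q.isPrime.mul_notMem (q.isPrime.mul_notMem hg₀ htq) fun h1 => by
    obtain ⟨k, -, hk⟩ := q.isPrime.prod_mem_iff.1 h1
    exact hu k hk
  -- the open image
  haveI : Algebra.HasGoingDown D B := Algebra.HasGoingDown.of_flat
  have hopen := PrimeSpectrum.isOpenMap_comap_of_hasGoingDown_of_finitePresentation (R := D) (S := B)
    _ (PrimeSpectrum.basicOpen G).isOpen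
  obtain ⟨_, ⟨_, ⟨e₀, rfl⟩, rfl⟩, he₀P, he₀le⟩ := PrimeSpectrum.isBasis_basic_opens.exists_subset_of_mem_open
    (show P ∈ PrimeSpectrum.comap (algebraMap D B) '' (PrimeSpectrum.basicOpen G : Set (PrimeSpectrum B)) from
      ⟨q, hGq, PrimeSpectrum.ext hqP⟩) hopen
  have he₀ : σ e₀ ∉ p.asIdeal := he₀P
  let δ := e₀ * C (σ e₀)
  have hσδ : σ δ = σ e₀ * σ e₀ := by simp [δ, hσC]
  refine ⟨σ δ, by rw [hσδ]; exact p.isPrime.mul_notMem he₀ he₀, ?_⟩
  let D' := Localization.Away δ
  let A' := Localization.Away (σ δ)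
  let H := G * algebraMap D B δ
  let S := Localization.Away H
  have hu' : (IsUnit (algebraMap B S g₀) ∧ IsUnit (algebraMap B S t)) ∧ IsUnit (algebraMap B S (∏ k, u k)) ∧
      IsUnit (algebraMap B S (algebraMap D B δ)) := by
    have h1 := IsLocalization.Away.algebraMap_isUnit (S := S) H
    simp only [H, G, map_mul, IsUnit.mul_iff] at h1
    exact ⟨⟨h1.1.1.1, h1.1.1.2⟩, h1.1.2, h1.2⟩
  let κ : D' →+* S := IsLocalization.Away.lift δ (g := (algebraMap B S).comp (algebraMap D B)) hu'.2.2
  have hκ : κ.comp (algebraMap D D') = (algebraMap B S).comp (algebraMap D B) :=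
    IsLocalization.Away.lift_comp _ _
  letI := κ.toAlgebra
  haveI : IsScalarTower D D' S :=
    IsScalarTower.of_algebraMap_eq' ((IsScalarTower.algebraMap_eq D B S).trans hκ.symm)
  haveI : Module.Flat B S := IsLocalization.flat S (Submonoid.powers H)
  haveI : Module.Flat D S := Module.Flat.trans D B S
  haveI : Module.Flat D' S := (Module.flat_iff_of_isLocalization D' (Submonoid.powers δ) S).2 inferInstance
  haveI : Module.FaithfullyFlat D' S := by
    refine Module.FaithfullyFlat.of_comap_surjective fun P' => ?_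
    have hδ : δ ∉ (P'.comap (algebraMap D D')).asIdeal := fun h1 =>
      P'.isPrime.ne_top (Ideal.eq_top_of_isUnit_mem _ h1 (IsLocalization.Away.algebraMap_isUnit δ))
    have he₀' : P'.comap (algebraMap D D') ∈ PrimeSpectrum.basicOpen e₀ := fun h1 =>
      hδ (Ideal.mul_mem_right _ _ h1)
    obtain ⟨Q', hQ', hQ'p⟩ := he₀le he₀'
    have hH : Q' ∈ PrimeSpectrum.basicOpen H := by
      refine Q'.isPrime.mul_notMem hQ' fun h1 => hδ ?_
      rw [← hQ'p]
      exact h1
    rw [← SetLike.mem_coe, ← PrimeSpectrum.localization_away_comap_range S H] at hH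
    obtain ⟨R', hR'⟩ := hH
    refine ⟨R', (PrimeSpectrum.localization_comap_injective D' (Submonoid.powers δ)) ?_⟩
    rw [← hQ'p, ← hR', ← PrimeSpectrum.comap_comp_apply, ← PrimeSpectrum.comap_comp_apply]
    exact congrArg (fun f => PrimeSpectrum.comap f R') hκ
  -- the retraction after localizing
  have hCδ : IsUnit (algebraMap D D' (C (σ δ))) := by
    have h1 : IsUnit (algebraMap D D' δ) := IsLocalization.Away.algebraMap_isUnit δ
    simp only [δ, map_mul, IsUnit.mul_iff] at h1
    rw [hσδ, map_mul, map_mul]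
    exact h1.2.mul h1.2
  let sA : A' →+* D' := IsLocalization.Away.lift (σ δ) (g := (algebraMap D D').comp C) hCδ
  let σ' : D' →+* A' := IsLocalization.Away.lift δ (g := (algebraMap A A').comp σ)
    (IsLocalization.Away.algebraMap_isUnit (σ δ))
  have hsA : ∀ a, sA (algebraMap A A' a) = algebraMap D D' (C a) := fun a => IsLocalization.Away.lift_eq _ _ a
  have hσ' : ∀ d, σ' (algebraMap D D' d) = algebraMap A A' (σ d) := fun d => IsLocalization.Away.lift_eq _ _ d
  have hσs : ∀ a, σ' (sA a) = a := by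
    refine fun a => RingHom.congr_fun (show σ'.comp sA = RingHom.id A' from ?_) a
    refine IsLocalization.ringHom_ext (Submonoid.powers (σ δ)) (RingHom.ext fun a => ?_)
    simp [hsA, hσ', hσC]
  let Lq : Fin c → D' := fun k => algebraMap D D' (d k)
  have hLS : (fun k => algebraMap D' S (Lq k)) = fun k => algebraMap B S (algebraMap D B (d k)) :=
    funext fun k => RingHom.congr_fun hκ (d k)
  let μ : Localization.Away g₀ →+* S := IsLocalization.Away.lift g₀ (g := algebraMap B S) hu'.1.1
  have hμ : μ.comp (algebraMap B _) = algebraMap B S := IsLocalization.Away.lift_comp _ _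
  have hμflat : μ.Flat := by
    letI := μ.toAlgebra
    haveI : IsScalarTower B (Localization.Away g₀) S := IsScalarTower.of_algebraMap_eq' hμ.symm
    exact (Module.flat_iff_of_isLocalization (Localization.Away g₀) (Submonoid.powers g₀) S).2 inferInstance
  have hKS : Ideal.span (Set.range fun k => algebraMap D' S (Lq k)) = J.map (algebraMap B S) := by
    rw [hLS, span_map (algebraMap B S) (fun k => algebraMap D B (d k))]
    refine le_antisymm (Ideal.map_mono (Ideal.span_le.2 ?_)) ?_
    · rintro _ ⟨k, rfl⟩; exact hdJ k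
    · rw [← hμ, ← Ideal.map_map, ← hxspan, ← span_map, Ideal.span_le, hμ]
      rintro _ ⟨k, rfl⟩
      rw [SetLike.mem_coe]
      change μ (algebraMap B _ (x k)) ∈ _
      rw [← RingHom.comp_apply, hμ, ← Ideal.unit_mul_mem_iff_mem _
        (isUnit_of_dvd_unit (map_dvd _ (Finset.dvd_prod_of_mem u (Finset.mem_univ k))) hu'.2.1),
        ← map_mul]
      exact Ideal.mem_map_of_mem _ (huK k)
  have hregS : Reg b fun k => algebraMap D' S (Lq k) :=
    (hl.map μ hμflat).of_span_eq (by rw [hKS, span_map μ l, hspan, Ideal.map_map, hμ])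
  -- split the selection
  let S₁ := {k : Fin c // ∃ a, C a = d k}
  let e : Fin (Fintype.card S₁) → Fin c := fun i => ((Fintype.equivFin S₁).symm i).1
  have he : Function.Injective e := Subtype.val_injective.comp (Fintype.equivFin S₁).symm.injective
  choose a ha using fun k : S₁ => k.2
  let f : Fin (Fintype.card S₁) → A' := fun i => algebraMap A A' (a ((Fintype.equivFin S₁).symm i))
  obtain ⟨hf, hfspan⟩ := Reg.retract (B := S) sA σ' hσs Lq e he f
    (fun i => by simp only [f, Lq, hsA]; rw [ha]) (fun k hk => by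
      rcases hdtype k with h0 | h1
      · simp [Lq, hσ', h0]
      · exact absurd ⟨Fintype.equivFin S₁ ⟨k, h1⟩, by simp [e]⟩ hk) hregS
  refine ⟨_, f, hf, hfspan.trans ?_⟩
  -- the ideal
  have hJD : J₀.map (algebraMap D D') = Ideal.span (Set.range Lq) := by
    refine le_antisymm ?_ (Ideal.span_le.2 ?_)
    · rw [← Ideal.comap_map_eq_self_of_faithfullyFlat (B := S) (Ideal.span (Set.range Lq)),
        ← Ideal.map_le_iff_le_comap, ← span_map, hKS, Ideal.map_map, show (algebraMap D' S).comp (algebraMap D D') = _ from hκ,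
        ← Ideal.map_map]
      exact Ideal.map_mono Ideal.map_comap_le
    · rintro _ ⟨k, rfl⟩; exact Ideal.mem_map_of_mem _ (hdJ k)
  rw [← hJD, Ideal.map_map, show σ'.comp (algebraMap D D') = (algebraMap A A').comp σ from RingHom.ext hσ',
    ← Ideal.map_map]
  congr 1
  refine le_antisymm (Ideal.map_le_iff_le_comap.2 fun x hx => hIσ.1 hx) fun x hx => ?_
  rw [← hσC x]
  exact Ideal.mem_map_of_mem σ (hIσ.2 (by rw [hσC]; exact hx))

/-- Standard smooth version. -/
theorem LocReg.ker_of_standardSmooth {b : Prop} {A B Q : Type u} [CommRing A] [CommRing B] [CommRing Q]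
    (φ : A →+* B) (hφ : φ.IsStandardSmooth) (γ : B →+* Q) (hπ : Function.Surjective (γ.comp φ))
    (h : LocReg b (RingHom.ker γ)) : LocReg b (RingHom.ker (γ.comp φ)) := by
  obtain ⟨n, g, hg, het⟩ := hφ.exists_etale_mvPolynomial
  choose a ha using fun k : Fin n => hπ (γ (g (X k)))
  letI := g.toAlgebra
  haveI : Algebra.Etale (MvPolynomial (Fin n) A) B := het
  let σ : MvPolynomial (Fin n) A →+* A := (aeval a).toRingHom
  have hσC : ∀ x, σ (MvPolynomial.C x) = x := fun x => aeval_C a x
  have hcomp : (γ.comp g) = ((γ.comp g).comp MvPolynomial.C).comp σ := by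
    refine ringHom_ext (fun r => ?_) (fun k => ?_)
    · simp [hσC]
    · change γ (g (X k)) = γ (g (MvPolynomial.C (σ (X k))))
      rw [show σ (X k) = a k from aeval_X a k, ← ha k, ← hg]
      rfl
  have h1 := LocReg.of_section (A := A) (D := MvPolynomial (Fin n) A) (RingHom.ker γ) MvPolynomial.C σ hσC γ rfl
    (fun d => RingHom.congr_fun hcomp d) (by rw [RingHom.comp_assoc]; exact hg ▸ hπ) h
  rwa [show ((γ.comp (algebraMap (MvPolynomial (Fin n) A) B)).comp MvPolynomial.C) = γ.comp φ by
    rw [RingHom.comp_assoc, ← hg]; rfl] at h1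

end Groth.Agent.SmDesc77
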