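import Groth.Agent.RegImm44.H1Descent
import Groth.Agent.RegImm44.Smooth
import Groth.Agent.QReg.Basic

/-!
# Quasi-regular and `H₁`-regular sequences along a retraction and a faithfully flat map
-/

set_option autoImplicit false

universe u

open TensorProduct MvPolynomial

noncomputable section

namespace Groth.Agent.SmDesc77

/-- Quasi-regular, and `H₁`-regular if `b` holds. -/
def Reg (b : Prop) {R : Type u} [CommRing R] {c : ℕ} (f : Fin c → R) : Prop :=
  CAlgX.IsQuasiRegular f ∧ (b → CAlgX.IsH1Regular f)

theorem span_map {R S : Type u} [CommRing R] [CommRing S] (φ : R →+* S) {c : ℕ} (f : Fin c → R) :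
    Ideal.span (Set.range fun i => φ (f i)) = (Ideal.span (Set.range f)).map φ := by
  rw [Ideal.map_span, ← Set.range_comp]; rfl

theorem Reg.map {b : Prop} {R S : Type u} [CommRing R] [CommRing S] (φ : R →+* S) (hφ : φ.Flat)
    {c : ℕ} {f : Fin c → R} (h : Reg b f) : Reg b fun i => φ (f i) := by
  letI := φ.toAlgebra
  haveI : Module.Flat R S := hφ
  exact ⟨CAlg48.QRBase.isQuasiRegular_of_flat h.1, fun hb => RegImm38.isH1Regular_of_flat (h.2 hb)⟩

theorem Reg.of_span_eq {b : Prop} {R : Type u} [CommRing R] {c : ℕ} {f l : Fin c → R} (h : Reg b l)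
    (hs : Ideal.span (Set.range f) = Ideal.span (Set.range l)) : Reg b f := by
  refine ⟨QReg.isQuasiRegular_of_span_eq l f h.1 hs, fun hb => ?_⟩
  refine RegImm44.isH1Regular_of_flat_local f (QReg.isQuasiRegular_of_span_eq l f h.1 hs) fun P hP hle => ?_
  refine ⟨Localization.AtPrime P, inferInstance, inferInstance, algebraMap R _, ?_, ?_, c,
    fun i => algebraMap R _ (l i), RegImm38.isH1Regular_of_flat (h.2 hb), ?_⟩
  · exact RingHom.flat_algebraMap_iff.2 (IsLocalization.flat _ P.primeCompl)
  · exact IsLocalization.AtPrime.under_maximalIdeal _ P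
  · rw [span_map, hs]

variable {A D B : Type u} [CommRing A] [CommRing D] [CommRing B]

/-- Membership in the span of the trivial relations descends along a faithfully flat map. -/
theorem mem_triv_of_faithfullyFlat [Algebra D B] [Module.FaithfullyFlat D B] {c : ℕ} (L : Fin c → D)
    (a : Fin c → D)
    (h : (fun i => algebraMap D B (a i)) ∈ RegImm44.triv fun i => algebraMap D B (L i)) :
    a ∈ RegImm44.triv L := by
  classical
  let π := TensorProduct.piScalarRight D B B (Fin c)
  have hlift : ∀ v ∈ RegImm44.triv (fun i => algebraMap D B (L i)),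
      π.symm v ∈ LinearMap.range ((RegImm44.triv L).subtype.baseChange B) := by
    intro v hv
    induction hv using Submodule.span_induction with
    | mem v hv =>
      obtain ⟨i, j, rfl⟩ := hv
      refine ⟨1 ⊗ₜ ⟨_, Submodule.subset_span ⟨i, j, rfl⟩⟩, ?_⟩
      apply π.injective
      rw [LinearEquiv.apply_symm_apply, LinearMap.baseChange_tmul, Submodule.subtype_apply]
      funext k
      simp [π, TensorProduct.piScalarRightHom_tmul, Pi.single_apply, Algebra.smul_def,
        apply_ite (algebraMap D B)]
    | zero => rw [map_zero]; exact zero_mem _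
    | add u v _ _ hu hv => rw [map_add]; exact add_mem hu hv
    | smul b u _ hu => rw [map_smul]; exact Submodule.smul_mem _ b hu
  have hsymm : π.symm (fun i => algebraMap D B (a i)) = (1 : B) ⊗ₜ[D] a := by
    apply π.injective
    rw [LinearEquiv.apply_symm_apply]
    funext k
    simp [π, TensorProduct.piScalarRightHom_tmul, Algebra.smul_def]
  have hzero : (1 : B) ⊗ₜ[D] (Submodule.Quotient.mk a : (Fin c → D) ⧸ RegImm44.triv L) = 0 := by
    obtain ⟨w, hw⟩ := hlift _ h
    rw [hsymm] at hw
    rw [show (1 : B) ⊗ₜ[D] (Submodule.Quotient.mk a : (Fin c → D) ⧸ RegImm44.triv L) =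
      (RegImm44.triv L).mkQ.baseChange B ((1 : B) ⊗ₜ[D] a) from rfl, ← hw]
    clear hw
    induction w using TensorProduct.induction_on with
    | zero => simp
    | tmul s x =>
      rw [LinearMap.baseChange_tmul, LinearMap.baseChange_tmul, Submodule.subtype_apply,
        Submodule.mkQ_apply, (Submodule.Quotient.mk_eq_zero _).2 x.2, TensorProduct.tmul_zero]
    | add x y hx hy => rw [map_add, map_add, hx, hy, add_zero]
  have hinj := Module.FaithfullyFlat.tensorProduct_mk_injective (A := D) (B := B)
    ((Fin c → D) ⧸ RegImm44.triv L)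
  exact (Submodule.Quotient.mk_eq_zero _).1 (hinj (hzero.trans (tmul_zero _ _).symm))

/-- A sequence which becomes regular along a faithfully flat map restricts along a retraction. -/
theorem Reg.retract {b : Prop} [Algebra D B] [Module.FaithfullyFlat D B] (s : A →+* D) (σ : D →+* A)
    (hσs : ∀ x, σ (s x) = x) {c r : ℕ} (L : Fin c → D) (e : Fin r → Fin c) (he : Function.Injective e)
    (f : Fin r → A) (hf : ∀ i, L (e i) = s (f i)) (h0 : ∀ k, k ∉ Set.range e → σ (L k) = 0)
    (h : Reg b fun k => algebraMap D B (L k)) :
    Reg b f ∧ Ideal.span (Set.range f) = (Ideal.span (Set.range L)).map σ := by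
  classical
  have hσL : ∀ i, σ (L (e i)) = f i := fun i => by rw [hf, hσs]
  have hspan : Ideal.span (Set.range f) = (Ideal.span (Set.range L)).map σ := by
    rw [← span_map]
    refine le_antisymm (Ideal.span_mono ?_) (Ideal.span_le.2 ?_)
    · rintro _ ⟨i, rfl⟩; exact ⟨e i, hσL i⟩
    · rintro _ ⟨k, rfl⟩
      by_cases hk : k ∈ Set.range e
      · obtain ⟨i, rfl⟩ := hk
        change σ (L (e i)) ∈ Ideal.span (Set.range f)
        rw [hσL]; exact Ideal.subset_span ⟨i, rfl⟩
      · change σ (L k) ∈ Ideal.span (Set.range f)
        rw [h0 k hk]; exact zero_mem _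
  refine ⟨⟨?_, fun hb => ?_⟩, hspan⟩
  · intro n P hP hev d
    let ψ : A →+* B := (algebraMap D B).comp s
    let Q : MvPolynomial (Fin c) B := rename e (MvPolynomial.map ψ P)
    have hQ : Q.IsHomogeneous n := (hP.map ψ).rename_isHomogeneous
    have hcomp : ((fun k => algebraMap D B (L k)) ∘ e) = ψ ∘ f := funext fun i => by
      simp [ψ, hf]
    have hle : (Ideal.span (Set.range f)).map ψ ≤ Ideal.span (Set.range fun k => algebraMap D B (L k)) := by
      rw [← span_map]
      refine Ideal.span_mono ?_
      rintro _ ⟨i, rfl⟩
      exact ⟨e i, congrFun hcomp i⟩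
    have hevQ : MvPolynomial.eval (fun k => algebraMap D B (L k)) Q ∈
        Ideal.span (Set.range fun k => algebraMap D B (L k)) ^ (n + 1) := by
      rw [show MvPolynomial.eval (fun k => algebraMap D B (L k)) Q = ψ (MvPolynomial.eval f P) by
        rw [MvPolynomial.eval_rename, hcomp, MvPolynomial.eval_map, ← MvPolynomial.eval₂_comp]]
      have := Ideal.mem_map_of_mem ψ hev
      rw [Ideal.map_pow] at this
      exact Ideal.pow_right_mono hle _ this
    have hc := h.1 n Q hQ hevQ (d.mapDomain e)
    rw [MvPolynomial.coeff_rename_mapDomain e he, MvPolynomial.coeff_map, span_map] at hc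
    have hc' : s (P.coeff d) ∈ Ideal.span (Set.range L) := by
      rw [← Ideal.comap_map_eq_self_of_faithfullyFlat (B := B) (Ideal.span (Set.range L))]
      exact hc
    rw [hspan, ← hσs (P.coeff d)]
    exact Ideal.mem_map_of_mem σ hc'
  · intro a ha
    let a' : Fin c → D := Function.extend e (fun i => s (a i)) 0
    have hsum : ∑ k, a' k * L k = 0 := by
      rw [← Finset.sum_subset (Finset.subset_univ (Finset.univ.image e)) ?_,
        Finset.sum_image he.injOn]
      · simp only [a', he.extend_apply, hf, ← map_mul, ← map_sum, ha, map_zero]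
      · intro k _ hk
        have hk' : ¬∃ i, e i = k := by simpa using hk
        simp only [a', Function.extend_apply' _ _ _ hk', Pi.zero_apply, zero_mul]
    have h1 : a' ∈ RegImm44.triv L := mem_triv_of_faithfullyFlat (B := B) L a' (h.2 hb _ (by
      simp only [← map_mul, ← map_sum, hsum, map_zero]))
    have h2 : ∀ v ∈ RegImm44.triv L, (fun i => σ (v (e i))) ∈ RegImm44.triv f := by
      intro v hv
      induction hv using Submodule.span_induction with
      | mem v hv =>
        obtain ⟨p, q, rfl⟩ := hv
        by_cases hp : p ∈ Set.range e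
        · obtain ⟨i, rfl⟩ := hp
          by_cases hq : q ∈ Set.range e
          · obtain ⟨j, rfl⟩ := hq
            refine Submodule.subset_span ⟨i, j, funext fun k => ?_⟩
            simp [Pi.single_apply, apply_ite σ, hσL, he.eq_iff]
          · convert zero_mem (RegImm44.triv f) using 1
            funext k
            have hne : e k ≠ q := fun hk => hq ⟨k, hk⟩
            simp [Pi.single_apply, apply_ite σ, h0 q hq, hne]
        · convert zero_mem (RegImm44.triv f) using 1
          funext k
          have hne : e k ≠ p := fun hk => hp ⟨k, hk⟩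
          simp [Pi.single_apply, apply_ite σ, h0 p hp, hne]
      | zero =>
        convert zero_mem (RegImm44.triv f) using 1
        funext i
        simp
      | add u v _ _ hu hv => simpa [Pi.add_def] using add_mem hu hv
      | smul t u _ hu =>
        convert Submodule.smul_mem _ (σ t) hu using 1
        funext i
        simp
    have h3 := h2 a' h1
    rwa [show (fun i => σ (a' (e i))) = a from funext fun i => by simp [a', he.extend_apply, hσs]] at h3

end Groth.Agent.SmDesc77
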