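import Groth.Agent.SmDesc77.Trunc
import Groth.Agent.SmDesc77.Scheme
import Groth.Agent.Omega.KoszulSplit

/-!
# Permanence of regularity under a split conormal sequence
-/

set_option autoImplicit false
set_option linter.style.haveILetI false

universe u

open CategoryTheory CategoryTheory.Limits AlgebraicGeometry TopologicalSpace

noncomputable section

namespace Groth.Agent.SmDesc77

open Omega.KoszulSplit in
/-- Near a prime, independent elements extend to generators of the same number. -/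
theorem exists_extension_gens {A : Type u} [CommRing A] (R : Type u) [CommRing R] [IsLocalRing R] [Algebra A R]
    (P : Ideal A) [P.IsPrime] [IsLocalization.AtPrime R P] (f h : List A)
    (hfh : Ideal.ofList f ≤ Ideal.ofList h)
    (hind : ∀ c : Fin f.length → R, ∑ k, c k * algebraMap A R f[k] ∈
      IsLocalRing.maximalIdeal R * (Ideal.ofList h).map (algebraMap A R) → ∀ k, c k ∈ IsLocalRing.maximalIdeal R) :
    ∃ g : A, g ∉ P ∧ ∃ s : List A, s.length + f.length = h.length ∧
      ∀ (S : Type u) [CommRing S] [Algebra A S] [IsLocalization.Away g S],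
        Ideal.ofList ((s ++ f).map (algebraMap A S)) = (Ideal.ofList h).map (algebraMap A S) := by
  classical
  let φ := algebraMap A R
  let fR : Fin f.length → R := fun k => φ f[k]
  have hfR : List.ofFn fR = f.map φ := by
    rw [show fR = φ ∘ (fun k => f[k]) from rfl, ← List.map_ofFn]
    exact congrArg (List.map φ) List.ofFn_getElem
  obtain ⟨s, hsub, hlen, hgen⟩ := exchange_map φ h ((Ideal.ofList h).map φ) (Ideal.map_ofList φ h).symm
    (List.ofFn fR) (fun x hx => by
      rw [hfR, List.mem_map] at hx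
      obtain ⟨a, ha, rfl⟩ := hx
      exact Ideal.mem_map_of_mem _ (hfh (Ideal.subset_span ha)))
    (notMem_of_coeff fR _ hind) (List.ofFn fR) [] (List.append_nil _).symm
  rw [hfR, ← List.map_append, ← Ideal.map_ofList] at hgen
  simp only [List.length_ofFn] at hlen
  have hx : ∀ x ∈ h, ∃ u : A, u ∉ P ∧ u * x ∈ Ideal.ofList (s ++ f) := fun x hxh => by
    have h1 : φ x ∈ (Ideal.ofList (s ++ f)).map φ := hgen ▸ Ideal.mem_map_of_mem _ (Ideal.subset_span hxh)
    obtain ⟨m, hm, hmx⟩ := (IsLocalization.algebraMap_mem_map_algebraMap_iff P.primeCompl R _ x).mp h1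
    exact ⟨m, hm, hmx⟩
  choose! u hu hux using hx
  refine ⟨∏ x ∈ h.toFinset, u x, fun hmem => ?_, s, hlen, fun S _ _ _ => ?_⟩
  · obtain ⟨x, hx, hxP⟩ := (Ideal.IsPrime.prod_mem_iff (hp := inferInstance)).mp hmem
    exact hu x (List.mem_toFinset.mp hx) hxP
  have hunit : ∀ x ∈ h, IsUnit (algebraMap A S (u x)) := fun x hx => by
    refine isUnit_of_dvd_unit (map_dvd (algebraMap A S) (Finset.dvd_prod_of_mem u (List.mem_toFinset.mpr hx))) ?_
    exact IsLocalization.Away.algebraMap_isUnit (S := S) (∏ y ∈ h.toFinset, u y)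
  rw [← Ideal.map_ofList]
  refine le_antisymm (Ideal.map_mono (Ideal.span_le.mpr fun x hx => ?_))
    (Ideal.map_le_iff_le_comap.mpr (Ideal.span_le.mpr fun x hx => ?_))
  · change x ∈ s ++ f at hx
    rcases List.mem_append.mp hx with hx | hx
    · exact Ideal.subset_span (hsub x hx)
    · exact hfh (Ideal.subset_span hx)
  · change algebraMap A S x ∈ (Ideal.ofList (s ++ f)).map (algebraMap A S)
    rw [← Ideal.unit_mul_mem_iff_mem _ (hunit x hx), ← map_mul]
    exact Ideal.mem_map_of_mem _ (hux x hx)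

open OmegaSh Omega Omega.Basic Omega.Stalks Omega.StalkConormal Omega.StalkSeq Omega.StalkAlg
open Groth.Agent.PullStalk.Sky Groth.Agent.PullStalk.Exact Groth.Agent.PullStalk.Basic

variable {X Y Z : Scheme.{u}} (i : Y ⟶ X) (j : Z ⟶ Y) [IsImmersion i] [IsImmersion j] [QuasiCompact i] [QuasiCompact j]

theorem isClosedImmersion_right (W : X.Opens) [IsClosedImmersion (i ∣_ W)] [hc : IsClosedImmersion ((j ≫ i) ∣_ W)] :
    IsClosedImmersion (j ∣_ (i ⁻¹ᵁ W)) := by
  have : IsClosedImmersion (j ∣_ (i ⁻¹ᵁ W) ≫ i ∣_ W) := by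
    rwa [morphismRestrict_comp] at hc
  exact IsClosedImmersion.of_comp _ (i ∣_ W)

set_option maxHeartbeats 1000000 in
/-- Minimal generators of the smaller ideal extend to generators of the larger one when the conormal map has a
local retraction. -/
theorem exists_chart_split
    {φ₁ : (Scheme.Modules.pullback j).obj (Omega.conormal i) ⟶ Omega.conormal (j ≫ i)}
    (hφ₁ : IsConormalMap (j ≫ i) i (𝟙 X) j φ₁)
    (z : Z) (hsplit : ∃ (U : Z.Opens) (ρ : (Scheme.Modules.restrictFunctor U.ι).obj (Omega.conormal (j ≫ i)) ⟶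
        (Scheme.Modules.restrictFunctor U.ι).obj ((Scheme.Modules.pullback j).obj (Omega.conormal i))),
        z ∈ U ∧ (Scheme.Modules.restrictFunctor U.ι).map φ₁ ≫ ρ = 𝟙 _)
    {W : X.Opens} (hW : IsAffineOpen W) (hzW : (j ≫ i) z ∈ W) [IsClosedImmersion (i ∣_ W)]
    [IsClosedImmersion ((j ≫ i) ∣_ W)] (f h : List Γ(X, W))
    (hfk : RingHom.ker (i.app W).hom = Ideal.ofList f) (hhk : RingHom.ker ((j ≫ i).app W).hom = Ideal.ofList h)
    (hrel : ∀ c : Fin f.length → X.presheaf.stalk (i (j z)),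
      ∑ k, c k * (X.presheaf.germ W (i (j z)) hzW).hom f[k] = 0 → ∀ k, c k ∈ IsLocalRing.maximalIdeal _) :
    ∃ g : Γ(X, W), (j ≫ i) z ∈ X.basicOpen g ∧ ∃ s : List Γ(X, W), s.length + f.length = h.length ∧
      Ideal.ofList ((s ++ f).map (X.presheaf.map (homOfLE (X.basicOpen_le g)).op).hom) =
        RingHom.ker ((j ≫ i).app (X.basicOpen g)).hom := by
  obtain ⟨U, ρ, hzU, hρ⟩ := hsplit
  let R := X.presheaf.stalk ((j ≫ i) z)
  letI : Algebra Γ(X, W) R := X.presheaf.algebra_section_stalk ⟨(j ≫ i) z, hzW⟩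
  let P := (hW.primeIdealOf ⟨(j ≫ i) z, hzW⟩).asIdeal
  haveI : IsLocalization.AtPrime R P := hW.isLocalization_stalk ⟨(j ≫ i) z, hzW⟩
  have hzW' : i (j z) ∈ W := hzW
  have hfh : Ideal.ofList f ≤ Ideal.ofList h := by
    rw [← hfk, ← hhk]
    change RingHom.ker (i.app W).hom ≤ RingHom.ker ((j.app (i ⁻¹ᵁ W)).hom.comp (i.app W).hom)
    exact fun a ha => (congrArg (j.app _).hom ha).trans (map_zero _)
  -- generators of the ideals on local rings
  let A₁ := X.presheaf.stalk (i (j z))
  let g₁ := (X.presheaf.germ W (i (j z)) hzW').hom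
  let μ : A₁ ⟶ R := σ hφ₁.1 z
  have hker₁ : RingHom.ker (i.stalkMap (j z)).hom = (Ideal.ofList f).map g₁ := by
    rw [← hfk, ConormalZero.ker_stalkMap_eq i hW (RegImm44.isAffineOpen_preimage i hW) hzW'
      (RegImm44.app_surjective i hW)]
  have hkerR : RingHom.ker ((j ≫ i).stalkMap z).hom = (Ideal.ofList h).map (algebraMap Γ(X, W) R) := by
    rw [← hhk, ConormalZero.ker_stalkMap_eq (j ≫ i) hW (RegImm44.isAffineOpen_preimage _ hW) hzW
      (RegImm44.app_surjective _ hW)]
    rfl
  have hμf : ∀ t, μ.hom (g₁ t) = algebraMap Γ(X, W) R t := fun t => by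
    refine (σ_germ hφ₁.1 z W hzW' t).trans ?_
    rfl
  let a : Fin f.length → A₁ := fun k => g₁ f[k]
  have ha : Ideal.span (Set.range a) = RingHom.ker (i.stalkMap (j z)).hom := by
    rw [hker₁, Ideal.map_ofList, KReg44.span_range_eq_ofList, show a = g₁ ∘ (fun k => f[k]) from rfl,
      ← List.map_ofFn]
    exact congrArg Ideal.ofList (congrArg (List.map g₁) List.ofFn_getElem)
  -- coefficient functional
  let C := Z.presheaf.stalk z
  let kC := IsLocalRing.ResidueField C
  let π₀ : A₁ →+* C := (j.stalkMap z).hom.comp (i.stalkMap (j z)).hom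
  let π₁ : A₁ →+* kC := (IsLocalRing.residue C).comp π₀
  have hπ₁ : ∀ x ∈ IsLocalRing.maximalIdeal A₁, π₁ x = 0 := fun x hx => by
    refine Ideal.Quotient.eq_zero_iff_mem.2 ((IsLocalRing.mem_maximalIdeal _).2 fun hu => ?_)
    rw [IsLocalRing.mem_maximalIdeal] at hx
    exact hx ((isUnit_map_iff (i.stalkMap (j z)).hom x).mp ((isUnit_map_iff (j.stalkMap z).hom _).mp hu))
  choose coef hcoef using fun x : RingHom.ker (i.stalkMap (j z)).hom =>
    (Submodule.mem_span_range_iff_exists_fun A₁).mp (ha.ge x.2)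
  have hcoef' : ∀ (x : RingHom.ker (i.stalkMap (j z)).hom) (c : Fin f.length → A₁),
      ∑ k, c k * a k = x.1 → ∀ k, π₁ (coef x k) = π₁ (c k) := fun x c hc k => by
    rw [← sub_eq_zero, ← map_sub]
    refine hπ₁ _ (hrel (fun k => coef x k - c k) ?_ k)
    simp only [sub_mul, Finset.sum_sub_distrib]
    exact sub_eq_zero.2 ((show ∑ k, coef x k * a k = x.1 by simpa only [smul_eq_mul] using hcoef x).trans hc.symm)
  let k₀ : RingHom.ker (i.stalkMap (j z)).hom →+ (Fin f.length → kC) :=
    AddMonoidHom.mk' (fun x k => π₁ (coef x k)) fun x y => funext fun k => by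
      refine (hcoef' (x + y) (fun k => coef x k + coef y k) ?_ k).trans (map_add π₁ _ _)
      simp only [add_mul, Finset.sum_add_distrib, Submodule.coe_add]
      exact congr_arg₂ (· + ·) (by simpa only [smul_eq_mul] using hcoef x) (by simpa only [smul_eq_mul] using hcoef y)
  obtain ⟨κ, hκsmul, hκ, hP⟩ := exists_conormal i (j z) i.isEmbedding.isInducing
  obtain ⟨κ', hκ'smul, hκ', -⟩ := exists_conormal (j ≫ i) z (j ≫ i).isEmbedding.isInducing
  letI : Module (Y.presheaf.stalk (j z)) (Fin f.length → kC) :=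
    Module.compHom _ ((IsLocalRing.residue C).comp (j.stalkMap z).hom)
  obtain ⟨l₀, hl₀, -⟩ := hP (Fin f.length → kC) k₀ fun b x => funext fun k => by
    refine (hcoef' (b • x) (fun k => b * coef x k) ?_ k).trans (map_mul π₁ _ _)
    simp only [mul_assoc, ← Finset.mul_sum]
    exact congrArg (b * ·) (by simpa only [smul_eq_mul] using hcoef x)
  obtain ⟨l, hl, -⟩ := existsUnique_unitStalk j z (Omega.conormal i) (Fin f.length → kC) l₀.toAddMonoidHom
    fun b m => map_smul l₀ b m
  have hmem : ∀ k, a k ∈ RingHom.ker (i.stalkMap (j z)).hom := fun k =>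
    ha.le (Ideal.subset_span ⟨k, rfl⟩)
  have hμL : ∀ x : RingHom.ker (i.stalkMap (j z)).hom, μ.hom x.1 ∈ RingHom.ker ((j ≫ i).stalkMap z).hom :=
    fun x => (stalkMap_σ hφ₁.1 z x.1).trans ((congrArg _ x.2).trans (map_zero _))
  have hind : ∀ c : Fin f.length → R, ∑ k, c k * algebraMap Γ(X, W) R f[k] ∈
      IsLocalRing.maximalIdeal R * (Ideal.ofList h).map (algebraMap Γ(X, W) R) →
        ∀ k, c k ∈ IsLocalRing.maximalIdeal R := by
    intro c hc k
    let u := (unitStalkHom j (Omega.conormal i) z).hom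
    let π : R →+* C := ((j ≫ i).stalkMap z).hom
    let w := ∑ k, π (c k) • u (κ ⟨a k, hmem k⟩)
    have hm : ∀ y ∈ IsLocalRing.maximalIdeal R, π y ∈ IsLocalRing.maximalIdeal C := fun y hy => by
      rw [IsLocalRing.mem_maximalIdeal] at hy ⊢
      exact fun hu => hy ((isUnit_map_iff π y).mp hu)
    have hψw : stalkLin φ₁ z w = κ' (∑ k, c k • ⟨μ.hom (a k), hμL ⟨a k, hmem k⟩⟩) := by
      simp only [w, map_sum, map_smul, hκ'smul]
      refine Finset.sum_congr rfl fun k _ => congrArg (π (c k) • ·) ?_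
      exact conormalMap_stalk (j ≫ i).isEmbedding.isInducing i.isEmbedding.isInducing hφ₁ z κ' hκ' κ hκ
        ⟨a k, hmem k⟩ (hμL ⟨a k, hmem k⟩)
    have hsum : ∀ y ∈ IsLocalRing.maximalIdeal R * RingHom.ker ((j ≫ i).stalkMap z).hom,
        ∃ hy : y ∈ RingHom.ker ((j ≫ i).stalkMap z).hom, κ' ⟨y, hy⟩ ∈ IsLocalRing.maximalIdeal C •
          (⊤ : Submodule C ((Omega.conormal (j ≫ i)).presheaf.stalk z)) := fun y hy => by
      induction hy using Submodule.mul_induction_on' with
      | mem_mul_mem e he x hx =>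
        refine ⟨Ideal.mul_mem_left _ e hx, ?_⟩
        have := hκ'smul e ⟨x, hx⟩
        exact (congrArg (fun t => t ∈ _) this).mpr (Submodule.smul_mem_smul (hm e he) trivial)
      | add x _ y _ hx hy =>
        obtain ⟨hx₁, hx₂⟩ := hx; obtain ⟨hy₁, hy₂⟩ := hy
        refine ⟨add_mem hx₁ hy₁, ?_⟩
        rw [show (⟨x + y, add_mem hx₁ hy₁⟩ : RingHom.ker ((j ≫ i).stalkMap z).hom) = ⟨x, hx₁⟩ + ⟨y, hy₁⟩ from rfl,
          map_add]
        exact add_mem hx₂ hy₂
    obtain ⟨hy, hy'⟩ := hsum _ (hkerR ▸ hc)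
    have hψm : stalkLin φ₁ z w ∈ IsLocalRing.maximalIdeal C •
        (⊤ : Submodule C ((Omega.conormal (j ≫ i)).presheaf.stalk z)) := by
      rw [hψw]
      convert hy' using 2
      refine Subtype.ext ?_
      simp only [Submodule.coe_sum, Submodule.coe_smul, smul_eq_mul]
      exact Finset.sum_congr rfl fun k _ => congrArg (c k * ·) (hμf _)
    have hwm := KoszulSplit.mem_smul_top_of_retraction φ₁ ρ hρ hzU w hψm
    have hlw : l w k = 0 := by
      refine Submodule.smul_induction_on (p := fun v => l v k = 0) hwm (fun e he v _ => ?_) fun v v' hv hv' => ?_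
      · rw [map_smul, Pi.smul_apply, Algebra.smul_def]
        rw [show algebraMap C kC e = 0 from Ideal.Quotient.eq_zero_iff_mem.2 he, zero_mul]
      · rw [map_add, Pi.add_apply, hv, hv', add_zero]
    have h1 : ∀ k', l (u (κ ⟨a k', hmem k'⟩)) = Pi.single k' 1 := fun k' => by
      refine ((hl _).trans (hl₀ _)).trans (funext fun m => ?_)
      refine (hcoef' ⟨a k', hmem k'⟩ (Pi.single k' 1) (by simp [Pi.single_apply]) m).trans ?_
      simp [Pi.single_apply, apply_ite π₁]
    simp only [w, map_sum, map_smul, h1, Finset.sum_apply, Pi.smul_apply, Pi.single_apply, smul_ite, smul_zero,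
      Finset.sum_ite_eq, Finset.mem_univ, if_true] at hlw
    rw [Algebra.smul_def, mul_one] at hlw
    have h2 := Ideal.Quotient.eq_zero_iff_mem.1 hlw
    by_contra hne
    exact (IsLocalRing.mem_maximalIdeal _).1 h2 (((IsLocalRing.notMem_maximalIdeal).mp hne).map π)
  obtain ⟨g, hg, s, hlen, hS⟩ := exists_extension_gens R P f h hfh hind
  refine ⟨g, (RegImm44.mem_basicOpen_iff hW ⟨(j ≫ i) z, hzW⟩ g).mpr hg, s, hlen, ?_⟩
  letI : Algebra Γ(X, W) Γ(X, X.basicOpen g) := (X.presheaf.map (homOfLE (X.basicOpen_le g)).op).hom.toAlgebra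
  haveI : IsLocalization.Away g Γ(X, X.basicOpen g) := hW.isLocalization_basicOpen g
  rw [RegImm44.ker_app_restrict (j ≫ i) hW (hW.basicOpen g) (X.basicOpen_le g), hhk]
  exact hS Γ(X, X.basicOpen g)

end Groth.Agent.SmDesc77
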