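import Groth.Agent.SmDesc77.Core
import Groth.Agent.SmDesc77.Select

/-!
# Truncation of quasi-regular and `H₁`-regular sequences, minimal generators
-/

set_option autoImplicit false

universe u

open MvPolynomial

noncomputable section

namespace Groth.Agent.SmDesc77

variable {A B : Type u} [CommRing A] [CommRing B]

theorem exists_form {c : ℕ} (L : Fin c → A) {m : ℕ} {x : A} (hx : x ∈ Ideal.span (Set.range L) ^ m) :
    ∃ Q : MvPolynomial (Fin c) A, Q.IsHomogeneous m ∧ MvPolynomial.eval L Q = x := by
  obtain ⟨Q, h1, h2, -⟩ := RegLoc.H1Seq.exists_form L ⊤ (a := m) (x := x) (by simpa using hx)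
  exact ⟨Q, h1, h2⟩

theorem eval_mem {c : ℕ} (L : Fin c → A) (K : Ideal A) {m : ℕ} (Q : MvPolynomial (Fin c) A)
    (hQ : Q.IsHomogeneous m) (hc : ∀ d, Q.coeff d ∈ K) :
    MvPolynomial.eval L Q ∈ Ideal.span (Set.range L) ^ m * K := by
  classical
  rw [MvPolynomial.eval_eq]
  refine Ideal.sum_mem _ fun d hd => ?_
  rw [mul_comm (Q.coeff d)]
  refine Ideal.mul_mem_mul ?_ (hc d)
  have hdeg : d.degree = m := RegLoc.H1Seq.degree_of_isHomogeneous hQ hd
  rw [← hdeg, Finsupp.degree_apply, ← Finset.prod_pow_eq_pow_sum]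
  exact Ideal.prod_mem_prod fun i _ => Ideal.pow_mem_pow (Ideal.subset_span (Set.mem_range_self i)) _

/-- Dropping the first element of a quasi-regular sequence. -/
theorem quasi_tail {c : ℕ} (φ : A →+* B) (hφ : Function.Surjective φ) (x : A)
    (hker : RingHom.ker φ = Ideal.span {x}) (r : Fin c → A)
    (h : CAlgX.IsQuasiRegular (Fin.cons x r : Fin (c + 1) → A)) :
    CAlgX.IsQuasiRegular fun i => φ (r i) := by
  classical
  intro n P hP hev d
  let L : Fin (c + 1) → A := Fin.cons x r
  let J := Ideal.span (Set.range L)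
  have hxJ : x ∈ J := Ideal.subset_span ⟨0, rfl⟩
  have hJφ : J.map φ = Ideal.span (Set.range fun i => φ (r i)) := by
    refine le_antisymm (Ideal.map_le_iff_le_comap.2 (Ideal.span_le.2 ?_)) ?_
    · rintro _ ⟨i, rfl⟩
      refine Fin.cases ?_ (fun k => ?_) i
      · simp [L, show φ x = 0 from by rw [← RingHom.mem_ker, hker]; exact Ideal.mem_span_singleton_self x]
      · exact Ideal.subset_span ⟨k, by simp [L]⟩
    · rw [Ideal.span_le]; rintro _ ⟨k, rfl⟩; exact Ideal.mem_map_of_mem _ (Ideal.subset_span ⟨k.succ, by simp [L]⟩)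
  -- a homogeneous lift
  let g : B → A := Function.surjInv hφ
  let P₀ : MvPolynomial (Fin c) A := ∑ e ∈ P.support, monomial e (g (P.coeff e))
  have hP₀ : P₀.IsHomogeneous n := IsHomogeneous.sum _ _ _ fun e he =>
    isHomogeneous_monomial _ (RegLoc.H1Seq.degree_of_isHomogeneous hP he)
  have hmap : MvPolynomial.map φ P₀ = P := by
    conv_rhs => rw [P.as_sum]
    simp [P₀, map_sum, map_monomial, g, Function.surjInv_eq hφ]
  have hev0 : φ (MvPolynomial.eval r P₀) ∈ (Ideal.span (Set.range r) ^ (n + 1)).map φ := by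
    rw [Ideal.map_pow, ← span_map, show φ (MvPolynomial.eval r P₀) = MvPolynomial.eval (fun i => φ (r i)) P by
      rw [← hmap, MvPolynomial.eval_map]
      exact MvPolynomial.eval₂_comp φ r P₀]
    exact hev
  obtain ⟨w, hw, hwφ⟩ := (Ideal.mem_map_iff_of_surjective φ hφ).1 hev0
  obtain ⟨t, ht⟩ := Ideal.mem_span_singleton'.1 (hker ▸ RingHom.mem_ker.2
    (show φ (MvPolynomial.eval r P₀ - w) = 0 by rw [map_sub, hwφ, sub_self]))
  have hrJ : Ideal.span (Set.range r) ≤ J := Ideal.span_mono (by
    rintro _ ⟨i, rfl⟩; exact ⟨i.succ, by simp [L]⟩)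
  have hwJ : w ∈ J ^ (n + 1) := Ideal.pow_right_mono hrJ _ hw
  have hPJ : MvPolynomial.eval r P₀ ∈ J ^ n := by
    refine Ideal.pow_right_mono hrJ n ?_
    have := eval_mem r ⊤ P₀ hP₀ (fun _ => trivial)
    simpa using this
  rw [← hJφ, ← hmap, coeff_map]
  apply Ideal.mem_map_of_mem
  cases n with
  | zero =>
    have hd := eq_or_ne (P₀.coeff d) 0
    rcases hd with hd | hd
    · simp [hd]
    · have hd0 : d = 0 := by
        have := RegLoc.H1Seq.degree_of_isHomogeneous hP₀ (mem_support_iff.2 hd)
        simpa using (Finsupp.degree_eq_zero_iff _).1 this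
      have hC : MvPolynomial.eval r P₀ = P₀.coeff 0 := by
        have h0 : P₀.totalDegree = 0 := Nat.le_zero.1 hP₀.totalDegree_le
        conv_lhs => rw [totalDegree_eq_zero_iff_eq_C.1 h0, eval_C]
      rw [hd0, ← hC, ← sub_add_cancel (MvPolynomial.eval r P₀) w, ← ht]
      exact add_mem (Ideal.mul_mem_left _ _ hxJ) (Ideal.pow_le_self (by simp) hwJ)
  | succ n =>
    have hstep : ∀ m ≤ n, t ∈ J ^ m := by
      intro m hm
      induction m with
      | zero => simp
      | succ m ih =>
        obtain ⟨Q, hQ, hQev⟩ := exists_form L (ih (by omega))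
        have htx : t * x ∈ J ^ (m + 1 + 1) := by
          rw [ht]
          exact Ideal.pow_le_pow_right (by omega) (sub_mem hPJ (Ideal.pow_le_pow_right (by omega) hwJ))
        have hco := h (m + 1) (X 0 * Q) (by simpa [add_comm] using (isHomogeneous_X A (0 : Fin (c+1))).mul hQ)
          (by
            rw [map_mul, eval_X, show MvPolynomial.eval (Fin.cons x r) Q = t from hQev, Fin.cons_zero, mul_comm]
            exact htx)
        have hQc : ∀ e, Q.coeff e ∈ J := fun e => by
          have := hco (Finsupp.single 0 1 + e)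
          rwa [coeff_X_mul] at this
        rw [← hQev, pow_succ]
        exact eval_mem L J Q hQ hQc
    obtain ⟨Q, hQ, hQev⟩ := exists_form L (hstep n le_rfl)
    let R : MvPolynomial (Fin (c + 1)) A := rename Fin.succ P₀ - X 0 * Q
    have hR : R.IsHomogeneous (n + 1) := hP₀.rename_isHomogeneous.sub
      (by simpa [add_comm] using (isHomogeneous_X A (0 : Fin (c+1))).mul hQ)
    have hRev : MvPolynomial.eval L R = w := by
      simp only [R, map_sub, map_mul, eval_X, eval_rename, hQev]
      rw [show L ∘ Fin.succ = r from funext fun i => by simp [L], show L 0 = x from rfl, mul_comm, ht]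
      ring
    have := h (n + 1) R hR (hRev ▸ hwJ) (d.mapDomain Fin.succ)
    rw [coeff_sub, coeff_rename_mapDomain _ (Fin.succ_injective c), coeff_X_mul'] at this
    rw [if_neg (by
      rw [Finsupp.mem_support_iff, not_not]
      exact Finsupp.mapDomain_notin_range _ _ (fun ⟨k, hk⟩ => Fin.succ_ne_zero k hk)), sub_zero] at this
    exact this

/-- Dropping the first element of an `H₁`-regular sequence. -/
theorem h1_tail {c : ℕ} (φ : A →+* B) (hφ : Function.Surjective φ) (x : A)
    (hker : RingHom.ker φ = Ideal.span {x}) (r : Fin c → A)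
    (h : CAlgX.IsH1Regular (Fin.cons x r : Fin (c + 1) → A)) :
    CAlgX.IsH1Regular fun i => φ (r i) := by
  classical
  intro a ha
  choose a' ha' using fun i => hφ (a i)
  obtain ⟨t, ht⟩ := Ideal.mem_span_singleton'.1 (hker ▸ RingHom.mem_ker.2
    (show φ (∑ i, a' i * r i) = 0 by simpa [map_sum, map_mul, ha'] using ha))
  have h1 : (Fin.cons (-t) a' : Fin (c+1) → A) ∈ RegImm44.triv (Fin.cons x r : Fin (c + 1) → A) := h _ (by
    rw [Fin.sum_univ_succ]
    simp [← ht])
  have hx0 : φ x = 0 := by rw [← RingHom.mem_ker, hker]; exact Ideal.mem_span_singleton_self x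
  have h2 : ∀ v ∈ RegImm44.triv (Fin.cons x r : Fin (c + 1) → A),
      (fun i => φ (v i.succ)) ∈ RegImm44.triv fun i => φ (r i) := by
    intro v hv
    induction hv using Submodule.span_induction with
    | mem v hv =>
      obtain ⟨p, q, rfl⟩ := hv
      refine Fin.cases ?_ (fun i => ?_) p
      · convert zero_mem (RegImm44.triv fun i => φ (r i)) using 1
        funext k
        simp [Pi.single_apply, apply_ite φ, hx0]
      · refine Fin.cases ?_ (fun j => ?_) q
        · convert zero_mem (RegImm44.triv fun i => φ (r i)) using 1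
          funext k
          simp [Pi.single_apply, apply_ite φ, hx0]
        · refine Submodule.subset_span ⟨i, j, funext fun k => ?_⟩
          simp [Pi.single_apply, apply_ite φ]
    | zero =>
      convert zero_mem (RegImm44.triv fun i => φ (r i)) using 1
      funext i; simp
    | add u v _ _ hu hv => simpa [Pi.add_def] using add_mem hu hv
    | smul t u _ hu =>
      convert Submodule.smul_mem _ (φ t) hu using 1
      funext i; simp
  have h3 := h2 _ h1
  simp only [Fin.cons_succ, ha'] at h3
  exact h3

/-- `Reg` for lists. -/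
def RegL (b : Prop) {R : Type u} [CommRing R] (l : List R) : Prop := Reg b l.get

theorem Reg.congr {b : Prop} {n m : ℕ} (e : m = n) {g : Fin m → A} {g' : Fin n → A}
    (h : ∀ i, g i = g' (Fin.cast e i)) (hg : Reg b g) : Reg b g' := by
  subst e
  rwa [show g' = g from funext fun i => (h i).symm]

theorem RegL.map {b : Prop} (φ : A →+* B) (hφ : φ.Flat) {l : List A} (h : RegL b l) : RegL b (l.map φ) :=
  (Reg.map φ hφ h).congr (List.length_map φ).symm fun i => RegImm38.get_map φ l i

theorem RegL.of_length_eq {b : Prop} {h f : List A} (hh : RegL b h)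
    (hspan : Ideal.ofList h = Ideal.ofList f) (hlen : f.length = h.length) : RegL b f := by
  refine Reg.congr hlen.symm (g := fun i => f.get (Fin.cast hlen.symm i)) (fun i => rfl) ?_
  refine Reg.of_span_eq hh ?_
  rw [show Set.range h.get = {x | x ∈ h} from Set.range_list_get h, show Set.range
    (fun i => f.get (Fin.cast hlen.symm i)) = {x | x ∈ f} from ?_]
  · exact hspan.symm
  · ext y; constructor
    · rintro ⟨i, rfl⟩; exact List.get_mem _ _
    · intro hy
      obtain ⟨i, rfl⟩ := List.mem_iff_get.1 hy
      exact ⟨Fin.cast hlen i, rfl⟩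

theorem RegL.tail {b : Prop} (φ : A →+* B) (hφ : Function.Surjective φ) (x : A)
    (hker : RingHom.ker φ = Ideal.span {x}) {r : List A} (h : RegL b (x :: r)) : RegL b (r.map φ) := by
  have h' : Reg b (Fin.cons x r.get : Fin (r.length + 1) → A) := Reg.congr rfl (fun i => by
    refine Fin.cases ?_ (fun k => ?_) i <;> rfl) h
  refine Reg.congr (List.length_map φ).symm (fun i => RegImm38.get_map φ r i)
    ⟨quasi_tail φ hφ x hker r.get h'.1, fun hb => h1_tail φ hφ x hker r.get (h'.2 hb)⟩

/-- Truncation. -/
theorem RegL.truncate {b : Prop} {B : Type u} [CommRing B] : ∀ (f : List A) {s : List A} (φ : A →+* B),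
    Function.Surjective φ → RingHom.ker φ = Ideal.ofList f → RegL b (f ++ s) → RegL b (s.map φ) := by
  intro f
  induction hn : f.length generalizing A with
  | zero =>
    intro s φ hφ hker h
    obtain rfl : f = [] := List.length_eq_zero_iff.1 hn
    refine RegL.map φ (RingHom.Flat.of_bijective ⟨?_, hφ⟩) h
    rw [RingHom.injective_iff_ker_eq_bot, hker, Ideal.ofList_nil]
  | succ n ih =>
    intro s φ hφ hker h
    obtain ⟨x, f', rfl⟩ := List.exists_cons_of_length_eq_add_one hn
    let q := Ideal.Quotient.mk (Ideal.span {x})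
    have h1 : RegL b ((f' ++ s).map q) :=
      RegL.tail q Ideal.Quotient.mk_surjective x (Ideal.mk_ker) h
    rw [List.map_append] at h1
    have hx : Ideal.span {x} ≤ RingHom.ker φ := by rw [hker, Ideal.ofList_cons]; exact le_sup_left
    let φ' := Ideal.Quotient.lift (Ideal.span {x}) φ hx
    have h2 := ih (f'.map q) (by simpa using hn) φ' (Ideal.Quotient.lift_surjective_of_surjective _ _ hφ) (by
      rw [Ideal.ker_quotient_lift, hker, Ideal.ofList_cons, Ideal.map_sup, Ideal.map_quotient_self, bot_sup_eq,
        Ideal.map_ofList]) h1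
    rw [List.map_map] at h2
    exact h2

/-- Minimal generators out of a generating set in a local ring. -/
theorem exists_minimal {R : Type u} [CommRing R] [IsLocalRing R] (T : Set R) (hfg : (Ideal.span T).FG) :
    ∃ (n : ℕ) (w : Fin n → R), (∀ k, w k ∈ T) ∧ Ideal.span (Set.range w) = Ideal.span T ∧
      ∀ c : Fin n → R, ∑ k, c k * w k = 0 → ∀ k, c k ∈ IsLocalRing.maximalIdeal R := by
  classical
  let N : Ideal R := Ideal.span T
  haveI : Module.Finite R N := Module.Finite.iff_fg.2 hfg
  let T' : Set N := Subtype.val ⁻¹' T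
  have hT' : Submodule.span R T' = ⊤ := Submodule.span_span_coe_preimage
  let K := IsLocalRing.ResidueField R
  let m := TensorProduct.mk R K N 1
  have hsK : Function.Surjective (algebraMap R K) := Ideal.Quotient.mk_surjective
  have hm : Function.Surjective m := TensorProduct.mk_surjective R N K hsK
  have hKtop : Submodule.span K (m '' T') = ⊤ := by
    apply Submodule.restrictScalars_injective R K (TensorProduct R K N)
    rw [Submodule.restrictScalars_span R K hsK, Submodule.restrictScalars_top, ← Submodule.map_span, hT',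
      Submodule.map_top, LinearMap.range_eq_top.2 hm]
  obtain ⟨v, hv, hvspan, hvind⟩ := Submodule.exists_fun_fin_finrank_span_eq K (m '' T')
  choose w hwT hwv using hv
  have hw : Submodule.span R (Set.range w) = ⊤ := by
    rw [← IsLocalRing.map_tensorProduct_mk_eq_top, Submodule.map_span, ← Set.range_comp,
      ← Submodule.restrictScalars_span R K hsK, show (m ∘ w) = v from funext hwv]
    exact (Submodule.restrictScalars_eq_top_iff R K _).2 (hvspan.trans hKtop)
  refine ⟨_, fun k => (w k).1, hwT, ?_, fun c hc k => ?_⟩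
  · have h1 := congrArg (Submodule.map N.subtype) hw
    rwa [Submodule.map_span, ← Set.range_comp, Submodule.map_subtype_top] at h1
  · have h1 : ∑ j, c j • w j = 0 := Subtype.ext (by simpa [Submodule.coe_sum] using hc)
    have h2 : ∑ j, algebraMap R K (c j) • v j = 0 := by
      have := congrArg m h1
      rw [map_sum, map_zero] at this
      rw [← this]
      refine Finset.sum_congr rfl fun j _ => ?_
      rw [map_smul, algebraMap_smul, hwv]
    exact Ideal.Quotient.eq_zero_iff_mem.1 (Fintype.linearIndependent_iff.1 hvind _ h2 k)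

end Groth.Agent.SmDesc77
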